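import Mathlib

/-!
# The lift `s` of an endomorphism, and the primary class function `phi`

`lift θ g` is the sum of `θ` over the eigenvalues of `g`. `phi θ g` vanishes unless the
characteristic polynomial is a power of an irreducible `f`; then it is the sum of `θ` over the
roots of `f` times `hQ`.
-/

set_option autoImplicit false

namespace CfsgLib.GLCusp

open Polynomial Module

variable {F : Type*} [Field F] {L : Type*} [Field L] [Algebra F L] (θ : L →*₀ ℂ)
variable {V : Type*} [AddCommGroup V] [Module F V] [FiniteDimensional F V]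
variable {V' : Type*} [AddCommGroup V'] [Module F V'] [FiniteDimensional F V']

/-- Sum of `θ` over the roots. -/
noncomputable def rootSum (f : F[X]) : ℂ := ((f.aroots L).map θ).sum

/-- Sum of `θ` over the eigenvalues. -/
noncomputable def lift (g : Module.End F V) : ℂ := rootSum θ g.charpoly

/-- `W` is invariant under `g`. -/
abbrev Inv (g : Module.End F V) (W : Submodule F V) : Prop := ∀ x ∈ W, g x ∈ W

theorem rootSum_one : rootSum θ (1 : F[X]) = 0 := by simp [rootSum]

theorem rootSum_mul {a b : F[X]} (ha : a ≠ 0) (hb : b ≠ 0) :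
    rootSum θ (a * b) = rootSum θ a + rootSum θ b := by
  rw [rootSum, aroots_mul (mul_ne_zero ha hb), Multiset.map_add, Multiset.sum_add]; rfl

theorem rootSum_pow (a : F[X]) (m : ℕ) : rootSum θ (a ^ m) = (m : ℂ) * rootSum θ a := by
  rw [rootSum, aroots_pow, Multiset.map_nsmul, Multiset.sum_nsmul, nsmul_eq_mul]; rfl

omit [FiniteDimensional F V] [FiniteDimensional F V'] in
theorem semiconj_aeval (j : V →ₗ[F] V') {g : Module.End F V} {g' : Module.End F V'}
    (h : ∀ x, j (g x) = g' (j x)) (p : F[X]) (x : V) : j (aeval g p x) = aeval g' p (j x) := by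
  induction p using Polynomial.induction_on' with
  | add a b ha hb => simp [ha, hb]
  | monomial k c =>
    rw [aeval_monomial, aeval_monomial, Module.End.mul_apply, Module.End.mul_apply,
      Module.algebraMap_end_apply, Module.algebraMap_end_apply, map_smul]
    congr 1
    induction k with
    | zero => simp
    | succ k ih => rw [pow_succ', pow_succ', Module.End.mul_apply, Module.End.mul_apply, h, ih]

omit [FiniteDimensional F V] in
theorem inv_aeval {g : Module.End F V} {W : Submodule F V} (h : Inv g W) (p : F[X]) :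
    Inv (aeval g p) W := by
  intro x hx
  have := semiconj_aeval W.subtype (g := g.restrict h) (g' := g) (fun _ => rfl) p ⟨x, hx⟩
  rw [show x = W.subtype ⟨x, hx⟩ from rfl, ← this]
  exact Submodule.coe_mem _

omit [FiniteDimensional F V] in
theorem restrict_aeval {g : Module.End F V} {W : Submodule F V} (h : Inv g W) (p : F[X]) (x : W) :
    ((aeval (g.restrict h) p x : W) : V) = aeval g p (x : V) :=
  semiconj_aeval W.subtype (g := g.restrict h) (g' := g) (fun _ => rfl) p x

theorem charpoly_congr (e : V ≃ₗ[F] V') {g : Module.End F V} {g' : Module.End F V'}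
    (h : ∀ x, e (g x) = g' (e x)) : g'.charpoly = g.charpoly := by
  have : g' = e.conj g := by
    ext y
    simp [LinearEquiv.conj_apply, h]
  rw [this, LinearEquiv.charpoly_conj]

/-- The characteristic polynomial is multiplicative along an invariant subspace. -/
theorem charpoly_split (g : Module.End F V) (W : Submodule F V) (h : Inv g W) :
    g.charpoly = (g.restrict h).charpoly * (W.mapQ W g h).charpoly := by
  classical
  obtain ⟨C, hC⟩ := Submodule.exists_isCompl W
  set e := W.prodEquivOfIsCompl C hC with he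
  set Φ : Module.End F (W × C) := e.symm.conj g with hΦ
  let bW := Module.finBasis F W
  let bC := Module.finBasis F C
  let bQ : Basis (Fin (finrank F C)) F (V ⧸ W) := bC.map (W.quotientEquivOfIsCompl C hC).symm
  have hP : g.charpoly = Φ.charpoly := by rw [hΦ, LinearEquiv.charpoly_conj]
  rw [hP, ← LinearMap.charpoly_toMatrix Φ (bW.prod bC), ← LinearMap.charpoly_toMatrix _ bW,
    ← LinearMap.charpoly_toMatrix (W.mapQ W g h) bQ]
  have hΦe : ∀ x, e (Φ x) = g (e x) := fun x => by
    rw [hΦ, LinearEquiv.conj_apply_apply, LinearEquiv.symm_symm, LinearEquiv.apply_symm_apply]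
  have hex : ∀ x : W × C, e x = (x.1 : V) + (x.2 : V) := fun x => by simp [he]
  have h1 : ∀ w : W, Φ (w, 0) = (g.restrict h w, 0) := by
    intro w
    apply e.injective
    rw [hΦe, hex, hex]
    simp
  have h2 : ∀ c : C, (W.quotientEquivOfIsCompl C hC) (Submodule.Quotient.mk (g (c : V))) =
      (Φ (0, c)).2 := by
    intro c
    have e1 : g (c : V) = ((Φ (0, c)).1 : V) + ((Φ (0, c)).2 : V) := by
      rw [← hex, hΦe, hex]
      simp
    have e2 : (Submodule.Quotient.mk (g (c : V)) : V ⧸ W) =
        Submodule.Quotient.mk ((Φ (0, c)).2 : V) := by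
      rw [Submodule.Quotient.eq, e1, add_sub_cancel_right]
      exact Submodule.coe_mem _
    rw [e2]
    exact Submodule.quotientEquivOfIsCompl_apply_mk_right hC _
  have key : LinearMap.toMatrix (bW.prod bC) (bW.prod bC) Φ =
      Matrix.fromBlocks (LinearMap.toMatrix bW bW (g.restrict h))
        (LinearMap.toMatrix (bW.prod bC) (bW.prod bC) Φ).toBlocks₁₂ 0
        (LinearMap.toMatrix bQ bQ (W.mapQ W g h)) := by
    ext i j
    rcases i with i | i <;> rcases j with j | j <;>
      simp [LinearMap.toMatrix_apply, Matrix.toBlocks₁₂, h1, bQ, h2]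
  rw [key, Matrix.charpoly_fromBlocks_zero₂₁]

theorem lift_split (g : Module.End F V) (W : Submodule F V) (h : Inv g W) :
    lift θ g = lift θ (g.restrict h) + lift θ (W.mapQ W g h) := by
  rw [lift, charpoly_split g W h, rootSum_mul θ (LinearMap.charpoly_monic _).ne_zero
    (LinearMap.charpoly_monic _).ne_zero]
  rfl

theorem lift_congr (e : V ≃ₗ[F] V') {g : Module.End F V} {g' : Module.End F V'}
    (h : ∀ x, e (g x) = g' (e x)) : lift θ g' = lift θ g := by
  rw [lift, lift, charpoly_congr e h]

/-- Irreducible factors of the characteristic polynomial divide every annihilating polynomial. -/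
theorem dvd_of_aeval_eq_zero {g : Module.End F V} {r p : F[X]} (hr : Irreducible r)
    (hd : r ∣ g.charpoly) (hp : aeval g p = 0) : r ∣ p := by
  classical
  have := Fact.mk hr
  let E := AdjoinRoot r
  let b := Module.finBasis F V
  set M₀ := LinearMap.toMatrixAlgEquiv b g with hM₀
  set M : Matrix (Fin (finrank F V)) (Fin (finrank F V)) E :=
    (Algebra.ofId F E).mapMatrix M₀ with hM
  have hz : aeval M (p.map (algebraMap F E)) = 0 := by
    rw [aeval_map_algebraMap, hM, aeval_algHom_apply, hM₀, aeval_algHom_apply, hp, map_zero, map_zero]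
  have hroot : M.charpoly.IsRoot (AdjoinRoot.root r) := by
    have e : M.charpoly = g.charpoly.map (algebraMap F E) := by
      rw [← LinearMap.charpoly_toMatrix g b, ← Matrix.charpoly_map]
      rfl
    obtain ⟨c, hc⟩ := hd
    rw [e, hc, Polynomial.map_mul, IsRoot.def, eval_mul, eval_map_algebraMap, AdjoinRoot.aeval_eq,
      AdjoinRoot.mk_self, zero_mul]
  rw [← Matrix.mem_spectrum_iff_isRoot_charpoly] at hroot
  have hne : Nonempty (Fin (finrank F V)) := by
    by_contra hempty
    rw [not_nonempty_iff] at hempty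
    exact hroot (isUnit_of_subsingleton _)
  have h2 := spectrum.subset_polynomial_aeval M (p.map (algebraMap F E))
    ⟨AdjoinRoot.root r, hroot, rfl⟩
  rw [hz, spectrum.zero_eq, Set.mem_singleton_iff] at h2
  simp only [eval_map_algebraMap] at h2
  exact AdjoinRoot.mk_eq_zero.mp ((AdjoinRoot.aeval_eq p).symm.trans h2)

/-- If a power of `f` kills `g` then the characteristic polynomial is a power of `f`. -/
theorem charpoly_eq_pow {g : Module.End F V} {f : F[X]} (hf : Irreducible f) (hm : f.Monic) (j : ℕ)
    (h : aeval g (f ^ j) = 0) : ∃ m, g.charpoly = f ^ m ∧ m * f.natDegree = finrank F V := by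
  classical
  have key : ∀ p : F[X], p.Monic → (∀ r, Irreducible r → r ∣ p → r ∣ f) → ∃ m, p = f ^ m := by
    intro p
    induction hN : p.natDegree using Nat.strong_induction_on generalizing p with
    | _ N ih => ?_
    intro hp hr
    by_cases hu : IsUnit p
    · exact ⟨0, by rw [pow_zero, hp.isUnit_iff.mp hu]⟩
    obtain ⟨r, hri, hrp⟩ := WfDvdMonoid.exists_irreducible_factor hu hp.ne_zero
    have hass : Associated r f := hri.associated_of_dvd hf (hr r hri hrp)
    obtain ⟨c, rfl⟩ := hass.dvd_iff_dvd_left.mp hrp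
    have hc : c.Monic := hm.of_mul_monic_left hp
    have hlt : c.natDegree < N := by
      rw [← hN, hm.natDegree_mul hc]
      have := hf.natDegree_pos
      omega
    obtain ⟨m, hm'⟩ := ih _ hlt c rfl hc fun r' hr' hd => hr r' hr' (hd.trans (dvd_mul_left _ _))
    exact ⟨m + 1, by rw [hm', pow_succ']⟩
  obtain ⟨m, hmc⟩ := key g.charpoly g.charpoly_monic fun r hr hd =>
    hr.prime.dvd_of_dvd_pow (dvd_of_aeval_eq_zero hr hd h)
  refine ⟨m, hmc, ?_⟩
  rw [← g.charpoly_natDegree, hmc, hm.natDegree_pow]

/-- `hQ Q k = ∏_{0 < i < k} (1 - Q^i)` for positive `k`, and `0` for `k = 0`. -/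
noncomputable def hQ (Q : ℂ) : ℕ → ℂ
  | 0 => 0
  | k + 1 => ∏ i ∈ Finset.range k, (1 - Q ^ (i + 1))

/-- The characteristic polynomial is a positive power of the monic irreducible `f`. -/
def IsPrimary (g : Module.End F V) (f : F[X]) : Prop :=
  f.Monic ∧ Irreducible f ∧ ∃ m, 0 < m ∧ g.charpoly = f ^ m

omit [FiniteDimensional F V] in
theorem pow_eq_imp {f f' : F[X]} (hf : f.Monic) (hfi : Irreducible f) (hf' : f'.Monic)
    (hfi' : Irreducible f') {m m' : ℕ} (hm : 0 < m) (h : f ^ m = f' ^ m') : f = f' := by
  have h1 : f ∣ f' ^ m' := h ▸ dvd_pow_self f hm.ne'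
  exact eq_of_monic_of_associated hf hf' (hfi.associated_of_dvd hfi' (hfi.prime.dvd_of_dvd_pow h1))

theorem isPrimary_unique {g : Module.End F V} {f f' : F[X]} (h : IsPrimary g f)
    (h' : IsPrimary g f') : f = f' := by
  obtain ⟨hf, hfi, m, hm, e⟩ := h
  obtain ⟨hf', hfi', m', -, e'⟩ := h'
  exact pow_eq_imp hf hfi hf' hfi' hm (e.symm.trans e')

/-- Dimension over the residue field of the cokernel of `f(g)`. -/
noncomputable def cokerLen (g : Module.End F V) (f : F[X]) : ℕ :=
  (finrank F V - finrank F (LinearMap.range (aeval g f))) / f.natDegree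

open Classical in
/-- The primary class function. -/
noncomputable def phi (g : Module.End F V) : ℂ :=
  if h : ∃ f, IsPrimary g f then
    rootSum θ h.choose * hQ ((Nat.card F : ℂ) ^ h.choose.natDegree) (cokerLen g h.choose)
  else 0

theorem phi_eq {g : Module.End F V} {f : F[X]} (h : IsPrimary g f) :
    phi θ g = rootSum θ f * hQ ((Nat.card F : ℂ) ^ f.natDegree) (cokerLen g f) := by
  rw [phi, dif_pos ⟨f, h⟩]
  rw [isPrimary_unique (Exists.choose_spec (⟨f, h⟩ : ∃ f, IsPrimary g f)) h]

theorem phi_eq_zero {g : Module.End F V} (h : ∀ f, ¬ IsPrimary g f) : phi θ g = 0 := by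
  rw [phi, dif_neg fun ⟨f, hf⟩ => h f hf]

theorem phi_of_finrank_zero (g : Module.End F V) (h : finrank F V = 0) : phi θ g = 0 := by
  refine phi_eq_zero θ fun f ⟨hf, hfi, m, hm, e⟩ => ?_
  have := congrArg natDegree e
  rw [g.charpoly_natDegree, h, hf.natDegree_pow] at this
  have := Nat.mul_pos hm hfi.natDegree_pos
  omega

theorem lift_of_finrank_zero (g : Module.End F V) (h : finrank F V = 0) : lift θ g = 0 := by
  rw [lift, g.charpoly_monic.natDegree_eq_zero.mp (g.charpoly_natDegree.trans h), rootSum_one]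

theorem phi_congr (e : V ≃ₗ[F] V') {g : Module.End F V} {g' : Module.End F V'}
    (h : ∀ x, e (g x) = g' (e x)) : phi θ g' = phi θ g := by
  have hiff : ∀ f, IsPrimary g' f ↔ IsPrimary g f := fun f => by
    rw [IsPrimary, IsPrimary, charpoly_congr e h]
  by_cases hex : ∃ f, IsPrimary g f
  · obtain ⟨f, hf⟩ := hex
    rw [phi_eq θ hf, phi_eq θ ((hiff f).mpr hf)]
    congr 2
    have hr : LinearMap.range (aeval g' f) = (LinearMap.range (aeval g f)).map (e : V →ₗ[F] V') := by
      ext y
      constructor
      · rintro ⟨x, rfl⟩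
        exact ⟨aeval g f (e.symm x), ⟨_, rfl⟩, by
          rw [semiconj_aeval (e : V →ₗ[F] V') h f]; simp⟩
      · rintro ⟨_, ⟨x, rfl⟩, rfl⟩
        exact ⟨e x, (semiconj_aeval (e : V →ₗ[F] V') h f x).symm⟩
    rw [cokerLen, cokerLen, hr, LinearEquiv.finrank_map_eq e, e.finrank_eq]
  · rw [phi_eq_zero θ fun f hf => hex ⟨f, hf⟩, phi_eq_zero θ fun f hf => hex ⟨f, (hiff f).mp hf⟩]

open Classical in
/-- `phi` of the restriction to `W` when `W` is invariant, and `0` otherwise. -/
noncomputable def phiW (g : Module.End F V) (W : Submodule F V) : ℂ :=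
  if h : Inv g W then phi θ (g.restrict h) else 0

theorem phiW_eq {g : Module.End F V} {W : Submodule F V} (h : Inv g W) :
    phiW θ g W = phi θ (g.restrict h) := dif_pos h

theorem phiW_eq_zero {g : Module.End F V} {W : Submodule F V} (h : ¬ Inv g W) : phiW θ g W = 0 :=
  dif_neg h

theorem phiW_top (g : Module.End F V) : phiW θ g ⊤ = phi θ g := by
  rw [phiW_eq θ (fun x _ => Submodule.mem_top)]
  exact (phi_congr θ Submodule.topEquiv fun _ => rfl).symm

theorem phiW_bot (g : Module.End F V) : phiW θ g ⊥ = 0 := by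
  rw [phiW_eq θ (g := g) (W := ⊥) (fun x hx => by rw [(Submodule.mem_bot F).mp hx, map_zero]; exact zero_mem _)]
  exact phi_of_finrank_zero θ _ (finrank_bot F V)

/-- Transport along a linear map injective on `Y`. -/
theorem phiW_map (j : V →ₗ[F] V') {g : Module.End F V} {g' : Module.End F V'} {Y : Submodule F V}
    (hj : Disjoint Y (LinearMap.ker j)) (hg : ∀ y ∈ Y, j (g y) = g' (j y)) (h : Inv g Y) :
    phiW θ g' (Y.map j) = phiW θ g Y := by
  have h' : Inv g' (Y.map j) := by
    rintro _ ⟨y, hy, rfl⟩
    exact ⟨g y, h y hy, hg y hy⟩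
  rw [phiW_eq θ h, phiW_eq θ h']
  have hinj : Function.Injective (j.submoduleMap Y) := by
    rw [← LinearMap.ker_eq_bot, LinearMap.ker_eq_bot']
    intro y hy
    exact Subtype.ext ((Submodule.disjoint_def.mp hj) y y.2 (congrArg Subtype.val hy))
  refine phi_congr θ (LinearEquiv.ofBijective (j.submoduleMap Y)
    ⟨hinj, j.submoduleMap_surjective Y⟩) fun y => Subtype.ext ?_
  exact hg y y.2

/-- Transport along an injective linear map. -/
theorem phiW_map_injective (j : V →ₗ[F] V') (hj : Function.Injective j) {g : Module.End F V}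
    {g' : Module.End F V'} (hg : ∀ y, j (g y) = g' (j y)) (Y : Submodule F V) :
    phiW θ g' (Y.map j) = phiW θ g Y := by
  by_cases h : Inv g Y
  · exact phiW_map θ j (by rw [LinearMap.ker_eq_bot.mpr hj]; exact disjoint_bot_right)
      (fun y _ => hg y) h
  · rw [phiW_eq_zero θ h, phiW_eq_zero θ]
    refine fun h' => h fun y hy => ?_
    obtain ⟨z, hz, e⟩ := h' _ (Submodule.mem_map_of_mem hy)
    rw [← hg] at e
    exact hj e ▸ hz

end CfsgLib.GLCusp
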