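import Cfsg.Agent.Lib.Char.BrauerInd
import Cfsg.Agent.Lib.GLCusp.Basic

/-!
# The lift of a split modular representation is a generalized character
-/

set_option autoImplicit false

universe u v

namespace CfsgLib.GLCusp

open Polynomial Module Cfsg CfsgLib.Char
open scoped ComplexConjugate commutatorElement

variable {L : Type v} [Field L] (θ : L →*₀ ℂ)

theorem lift_roots {V : Type*} [AddCommGroup V] [Module L V] [FiniteDimensional L V]
    (A : Module.End L V) : lift θ A = (A.charpoly.roots.map θ).sum := by
  rw [lift, rootSum, aroots_def, Algebra.algebraMap_self, Polynomial.map_id]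

theorem lift_smul {V : Type*} [AddCommGroup V] [Module L V] [FiniteDimensional L V]
    (A : Module.End L V) (hA : A.charpoly.Splits) {ω : L} (hω : ω ≠ 0) :
    lift θ (ω • A) = θ ω * lift θ A := by
  classical
  set b := Module.finBasis L V
  set M := LinearMap.toMatrix b b A with hM
  have h1 : (ω • A).charpoly = C ω ^ finrank L V * A.charpoly.comp (C ω⁻¹ * X) := by
    rw [← LinearMap.charpoly_toMatrix (ω • A) b, ← LinearMap.charpoly_toMatrix A b, map_smul, ← hM,
      Matrix.charpoly, Matrix.charpoly]
    have e : (ω • M).charmatrix = C ω • (M.charmatrix.map (fun p => p.comp (C ω⁻¹ * X))) := by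
      ext i j : 2
      by_cases h : i = j
      · subst h
        simp [Matrix.charmatrix_apply_eq, mul_sub, ← mul_assoc, ← map_mul, mul_inv_cancel₀ hω]
      · simp [Matrix.charmatrix_apply_ne, h]
    rw [e, Matrix.det_smul, Fintype.card_fin]
    congr 1
    exact (RingHom.map_det (compRingHom (C ω⁻¹ * X)) M.charmatrix).symm
  have h2 : (ω • A).charpoly = ((A.charpoly.roots.map (ω * ·)).map (X - C ·)).prod := by
    rw [h1]
    conv_lhs => rw [hA.eq_prod_roots_of_monic A.charpoly_monic]
    rw [multiset_prod_comp, ← A.charpoly_natDegree, hA.natDegree_eq_card_roots, Multiset.map_map,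
      Multiset.map_map,
      show ∀ (s : Multiset L) (P : L → L[X]), C ω ^ Multiset.card s * (s.map P).prod =
        (s.map fun a => C ω * P a).prod from fun s P => by
          rw [Multiset.prod_map_mul, Multiset.map_const', Multiset.prod_replicate]]
    congr 1
    refine Multiset.map_congr rfl fun a _ => ?_
    simp [mul_sub, ← mul_assoc, ← map_mul, mul_inv_cancel₀ hω]
  rw [lift_roots, lift_roots, h2, roots_multiset_prod_X_sub_C, Multiset.map_map,
    ← Multiset.sum_map_mul_left]
  congr 1
  exact Multiset.map_congr rfl fun a _ => map_mul θ ω a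

variable {G : Type u} [Group G]

theorem splits_restrict {V : Type*} [AddCommGroup V] [Module L V] [FiniteDimensional L V]
    {A : Module.End L V} (hA : A.charpoly.Splits) {W : Submodule L V} (h : Inv A W) :
    (A.restrict h).charpoly.Splits ∧ (W.mapQ W A h).charpoly.Splits :=
  ⟨hA.of_dvd A.charpoly_monic.ne_zero ⟨_, charpoly_split A W h⟩,
    hA.of_dvd A.charpoly_monic.ne_zero ⟨_, (charpoly_split A W h).trans (mul_comm _ _)⟩⟩

theorem exists_central_commutator {G : Type u} [Group G] [Group.IsNilpotent G]
    (hab : ∃ a b : G, a * b ≠ b * a) :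
    ∃ z : G, z ≠ 1 ∧ z ∈ Subgroup.center G ∧ z ∈ commutator G := by
  classical
  obtain ⟨N, hN⟩ := Subgroup.nilpotent_iff_lowerCentralSeries.mp ‹Group.IsNilpotent G›
  have hex : ∃ j, (⊤ : Subgroup G).lowerCentralSeries j = ⊥ := ⟨N, hN⟩
  have h1 : (⊤ : Subgroup G).lowerCentralSeries 1 ≠ ⊥ := by
    rw [Subgroup.top_lowerCentralSeries_one]
    intro h
    obtain ⟨a, b, hne⟩ := hab
    apply hne
    have : ⁅a, b⁆ ∈ commutator G :=
      Subgroup.commutator_mem_commutator (Subgroup.mem_top a) (Subgroup.mem_top b)
    rw [h, Subgroup.mem_bot] at this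
    exact commutatorElement_eq_one_iff_mul_comm.mp this
  obtain ⟨j, hj⟩ : ∃ j, Nat.find hex = j + 2 := by
    refine ⟨Nat.find hex - 2, ?_⟩
    rcases hk : Nat.find hex with _ | _ | k
    · have := Nat.find_spec hex
      rw [hk] at this
      exact absurd (le_bot_iff.mp ((Subgroup.lowerCentralSeries_antitone _ zero_le_one).trans
        this.le)) h1
    · have := Nat.find_spec hex
      rw [hk] at this
      exact absurd this h1
    · omega
  have hne : (⊤ : Subgroup G).lowerCentralSeries (j + 1) ≠ ⊥ := Nat.find_min hex (by omega)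
  obtain ⟨z, hz, hz1⟩ := (Subgroup.ne_bot_iff_exists_ne_one.mp hne) |> fun ⟨⟨z, hz⟩, h⟩ =>
    (⟨z, hz, fun e => h (Subtype.ext e)⟩ : ∃ z, z ∈ (⊤ : Subgroup G).lowerCentralSeries (j + 1) ∧ z ≠ 1)
  refine ⟨z, hz1, Subgroup.mem_center_iff.mpr fun g => ?_, ?_⟩
  · have hs := Nat.find_spec hex
    rw [hj, Subgroup.lowerCentralSeries_succ] at hs
    have : ⁅z, g⁆ ∈ (⊥ : Subgroup G) := hs ▸ Subgroup.commutator_mem_commutator hz (Subgroup.mem_top g)
    exact (commutatorElement_eq_one_iff_mul_comm.mp ((Subgroup.mem_bot).mp this)).symm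
  · rw [← Subgroup.top_lowerCentralSeries_one]
    exact Subgroup.lowerCentralSeries_antitone _ (by omega) hz

variable (hθ : Function.Injective θ)
include hθ

set_option maxHeartbeats 800000 in
theorem isGeneralized_lift_nilpotent : ∀ (m : ℕ) (G : Type u) [Group G] [Finite G]
    [Group.IsNilpotent G], Nat.card G = m → ∀ (d : ℕ) (V : Type v) [AddCommGroup V] [Module L V]
      [FiniteDimensional L V], finrank L V = d → ∀ ρ : G →* Module.End L V,
        (∀ g, (ρ g).charpoly.Splits) → IsGeneralizedCharacter G (fun g => lift θ (ρ g)) := by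
  classical
  intro m
  induction m using Nat.strong_induction_on with
  | _ m ihm => ?_
  intro G _ _ _ hm d
  induction d using Nat.strong_induction_on with
  | _ d ihd => ?_
  intro V _ _ _ hd ρ hsp
  have : Fintype G := Fintype.ofFinite G
  rcases Nat.eq_zero_or_pos d with rfl | hdpos
  · have : (fun g => lift θ (ρ g)) = 0 := funext fun g => lift_of_finrank_zero θ _ hd
    rw [this]; exact isGeneralized_zero
  by_cases hred : ∃ W : Submodule L V, W ≠ ⊥ ∧ W ≠ ⊤ ∧ ∀ g, Inv (ρ g) W
  · obtain ⟨W, hW0, hW1, hinv⟩ := hred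
    let ρ₁ : G →* Module.End L W :=
      { toFun := fun g => (ρ g).restrict (hinv g)
        map_one' := LinearMap.ext fun x => Subtype.ext (by simp)
        map_mul' := fun a b => LinearMap.ext fun x => Subtype.ext (by simp) }
    let ρ₂ : G →* Module.End L (V ⧸ W) :=
      { toFun := fun g => W.mapQ W (ρ g) (hinv g)
        map_one' := by ext x; simp
        map_mul' := fun a b => by ext x; simp }
    have e : (fun g => lift θ (ρ g)) =
        (fun g => lift θ (ρ₁ g)) + fun g => lift θ (ρ₂ g) :=
      funext fun g => lift_split θ (ρ g) W (hinv g)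
    rw [e]
    have l1 : finrank L W < d := hd ▸ Submodule.finrank_lt hW1
    have l2 : finrank L (V ⧸ W) < d := by
      have := W.finrank_quotient_add_finrank
      have := Submodule.one_le_finrank_iff.mpr hW0
      omega
    exact isGeneralized_add (ihd _ l1 W rfl ρ₁ fun g => (splits_restrict (hsp g) (hinv g)).1)
      (ihd _ l2 (V ⧸ W) rfl ρ₂ fun g => (splits_restrict (hsp g) (hinv g)).2)
  simp only [not_exists, not_and] at hred
  by_cases hker : ρ.ker = ⊥
  swap
  · have hlt : Nat.card (G ⧸ ρ.ker) < m := by
      rw [← hm, ← ρ.ker.card_mul_index, ← Subgroup.index_eq_card]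
      have h2 := (Subgroup.one_lt_card_iff_ne_bot _).mpr hker
      have h3 : ρ.ker.index ≠ 0 := Subgroup.index_ne_zero_of_finite
      nlinarith [Nat.pos_of_ne_zero h3]
    let ρb : G ⧸ ρ.ker →* Module.End L V := QuotientGroup.lift ρ.ker ρ le_rfl
    have hρb : ∀ g, ρb (QuotientGroup.mk' ρ.ker g) = ρ g := fun g => QuotientGroup.lift_mk' _ _ g
    have hsb : ∀ x, (ρb x).charpoly.Splits := fun x => by
      obtain ⟨g, rfl⟩ := QuotientGroup.mk'_surjective ρ.ker x
      rw [hρb]
      exact hsp g
    have := isGeneralized_comp (QuotientGroup.mk' ρ.ker) (ihm _ hlt (G ⧸ ρ.ker) rfl d V hd ρb hsb)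
    simpa only [hρb] using this
  have hinj : Function.Injective ρ := fun a b hab => by
    have h1 : a⁻¹ * b ∈ ρ.ker := by
      rw [MonoidHom.mem_ker, map_mul, ← hab, ← map_mul, inv_mul_cancel, map_one]
    rw [hker, Subgroup.mem_bot] at h1
    exact inv_mul_eq_one.mp h1
  have hscalar : ∀ z : G, (∀ g, z * g = g * z) → ∃ ω : L, ρ z = ω • LinearMap.id := by
    intro z hz
    have hroots : 0 < Multiset.card (ρ z).charpoly.roots := by
      rw [← (hsp z).natDegree_eq_card_roots, LinearMap.charpoly_natDegree, hd]
      exact hdpos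
    obtain ⟨ω, hω⟩ := Multiset.card_pos_iff_exists_mem.mp hroots
    have hev : (ρ z).HasEigenvalue ω :=
      (Module.End.hasEigenvalue_iff_isRoot_charpoly _ _).mpr (isRoot_of_mem_roots hω)
    refine ⟨ω, ?_⟩
    have htop : Module.End.eigenspace (ρ z) ω = ⊤ := by
      by_contra hne
      refine hred _ hev hne fun g x hx => ?_
      rw [Module.End.mem_eigenspace_iff] at hx ⊢
      rw [← Module.End.mul_apply, ← map_mul, hz g, map_mul, Module.End.mul_apply, hx, map_smul]
    ext x
    have : x ∈ Module.End.eigenspace (ρ z) ω := htop ▸ Submodule.mem_top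
    simpa [Module.End.mem_eigenspace_iff] using this
  have hcl : IsClassFunction G (fun g => lift θ (ρ g)) := fun g h => by
    let e : V ≃ₗ[L] V := LinearEquiv.ofLinearMap (ρ h) (ρ h⁻¹)
      (by rw [← Module.End.mul_eq_comp, ← map_mul, mul_inv_cancel, map_one]; rfl)
      (by rw [← Module.End.mul_eq_comp, ← map_mul, inv_mul_cancel, map_one]; rfl)
    refine lift_congr θ e fun x => ?_
    show ρ h (ρ g x) = ρ (h * g * h⁻¹) (ρ h x)
    rw [← Module.End.mul_apply, ← Module.End.mul_apply, ← map_mul, ← map_mul, inv_mul_cancel_right]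
  by_cases hab : ∃ a b : G, a * b ≠ b * a
  swap
  · simp only [not_exists, not_ne_iff] at hab
    choose c hc using fun g => hscalar g (hab g)
    have : Nontrivial V := Module.nontrivial_of_finrank_pos (R := L) (hd ▸ hdpos)
    obtain ⟨v, hv⟩ := exists_ne (0 : V)
    have h1 : finrank L V = 1 := by
      have htop : Submodule.span L {v} = ⊤ := by
        by_contra hne
        refine hred _ (by simpa using hv) hne fun g x hx => ?_
        rw [hc g]
        exact Submodule.smul_mem _ _ hx
      rw [← finrank_top L V, ← htop, finrank_span_singleton hv]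
    have hcinj : ∀ a b : L, a • v = b • v → a = b := fun a b h => smul_left_injective L hv h
    have hval : ∀ g, lift θ (ρ g) = θ (c g) := by
      intro g
      have h3 : (ρ g).charpoly = X - C (c g) := by
        let b := Module.basisUnique (Fin 1) h1
        rw [← LinearMap.charpoly_toMatrix _ b, Matrix.charpoly, Matrix.det_fin_one,
          Matrix.charmatrix_apply_eq, LinearMap.toMatrix_apply, hc g]
        simp
      rw [lift_roots, h3, roots_X_sub_C, Multiset.map_singleton, Multiset.sum_singleton]
    let f : G →* ℂ :=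
      { toFun := fun g => θ (c g)
        map_one' := by
          rw [hcinj (c 1) 1 (by simpa using (LinearMap.congr_fun (hc 1) v).symm), map_one]
        map_mul' := fun a b => by
          rw [hcinj (c (a * b)) (c a * c b) ?_, map_mul]
          have := LinearMap.congr_fun (map_mul ρ a b) v
          rw [hc, hc, hc] at this
          simpa [smul_smul, mul_comm] using this }
    rw [funext hval]
    exact isGeneralized_of_isCharacter (isCharacter_monoidHom f.toHomUnits)
  obtain ⟨z, hz1, hzc, hzd⟩ := exists_central_commutator hab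
  have hzcomm : ∀ g, z * g = g * z := fun g => (Subgroup.mem_center_iff.mp hzc g).symm
  obtain ⟨ω, hω⟩ := hscalar z hzcomm
  have hω0 : ω ≠ 0 := fun e => by
    have h1 := map_mul ρ z z⁻¹
    rw [mul_inv_cancel, map_one, hω, e, zero_smul, zero_mul] at h1
    have : Nontrivial V := Module.nontrivial_of_finrank_pos (R := L) (hd ▸ hdpos)
    exact one_ne_zero h1
  have hω1 : ω ≠ 1 := fun e => hz1 (hinj (by rw [hω, e, one_smul, map_one]; rfl))
  refine (isGeneralized_iff_classInner hcl).mpr fun ψ => ?_
  obtain ⟨H, lam, hlam⟩ := monomial ψ.2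
  have : Fintype H := Fintype.ofFinite H
  rw [hlam, frobenius_reciprocity' H _ hcl]
  by_cases hH : H = ⊤
  · subst hH
    refine ⟨0, ?_⟩
    simp only [classInner, Int.cast_zero]
    refine mul_eq_zero_of_right _ ?_
    let zt : (⊤ : Subgroup G) := ⟨z, Subgroup.mem_top z⟩
    have hlz : lam zt = 1 := by
      have h1 : z ∈ (lam.comp (Subgroup.topEquiv (G := G)).symm.toMonoidHom).ker :=
        Abelianization.commutator_subset_ker _ hzd
      exact h1
    set S : ℂ := ∑ h : (⊤ : Subgroup G), lift θ (ρ h) * conj (lam h : ℂ)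
    have hS : S = θ ω * S := by
      show _ = θ ω * _
      rw [Finset.mul_sum]
      refine (Fintype.sum_equiv (Equiv.mulLeft zt) _ _ fun h => ?_).symm
      rw [Equiv.coe_mulLeft, map_mul, hlz, one_mul, Subgroup.coe_mul, map_mul]
      rw [show ρ (zt : G) * ρ (h : G) = ω • ρ (h : G) by rw [hω]; ext x; rfl,
        lift_smul θ _ (hsp _) hω0, mul_assoc]
    have hne : θ ω - 1 ≠ 0 := sub_ne_zero.mpr fun e => hω1 (hθ (by rw [e, map_one]))
    exact (mul_eq_zero.mp (show (θ ω - 1) * S = 0 by linear_combination -hS)).resolve_left hne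
  · have hlt : Nat.card H < m := hm ▸ lt_of_le_of_ne (Subgroup.card_le_card_group H)
      fun e => hH (Subgroup.eq_top_of_card_eq H e)
    exact exists_int_classInner (ihm _ hlt H rfl d V hd (ρ.comp H.subtype) fun h => hsp _)
      (isGeneralized_of_isCharacter (isCharacter_monoidHom lam))

theorem isGeneralized_lift_split {G : Type u} [Group G] [Finite G] {V : Type v} [AddCommGroup V]
    [Module L V] [FiniteDimensional L V] (ρ : G →* Module.End L V)
    (hsp : ∀ g, (ρ g).charpoly.Splits) : IsGeneralizedCharacter G (fun g => lift θ (ρ g)) := by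
  have : Fintype G := Fintype.ofFinite G
  refine brauer_characterisation (fun g h => ?_) fun E p hp hE => ?_
  · let e : V ≃ₗ[L] V := LinearEquiv.ofLinearMap (ρ h) (ρ h⁻¹)
      (by rw [← Module.End.mul_eq_comp, ← map_mul, mul_inv_cancel, map_one]; rfl)
      (by rw [← Module.End.mul_eq_comp, ← map_mul, inv_mul_cancel, map_one]; rfl)
    refine lift_congr θ e fun x => ?_
    show ρ h (ρ g x) = ρ (h * g * h⁻¹) (ρ h x)
    rw [← Module.End.mul_apply, ← Module.End.mul_apply, ← map_mul, ← map_mul, inv_mul_cancel_right]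
  · have := isNilpotent_of_isElementary hp hE
    exact isGeneralized_lift_nilpotent θ hθ _ E rfl _ V rfl (ρ.comp E.subtype) fun g => hsp _

/-- **Green's lift**: over a subfield, as long as all eigenvalues lie in `L`. -/
theorem isGeneralized_lift {F : Type*} [Field F] [Algebra F L] {G : Type u} [Group G] [Finite G]
    {V : Type*} [AddCommGroup V] [Module F V] [FiniteDimensional F V] (ρ : G →* Module.End F V)
    (hsp : ∀ p : F[X], p.Monic → p.natDegree ≤ finrank F V → (p.map (algebraMap F L)).Splits) :
    IsGeneralizedCharacter G (fun g => lift θ (ρ g)) := by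
  classical
  let b := Module.finBasis F V
  let ρL : G →* Module.End L (Fin (finrank F V) → L) :=
    (Matrix.toLinAlgEquiv' : Matrix (Fin (finrank F V)) (Fin (finrank F V)) L ≃ₐ[L] _).toRingEquiv.toRingHom.toMonoidHom.comp
      (((algebraMap F L).mapMatrix.toMonoidHom).comp
        ((LinearMap.toMatrixAlgEquiv b).toRingEquiv.toRingHom.toMonoidHom.comp ρ))
  have hcp : ∀ g, (ρL g).charpoly = (ρ g).charpoly.map (algebraMap F L) := fun g => by
    rw [← LinearMap.charpoly_toMatrix (ρ g) b, ← Matrix.charpoly_map]
    exact Matrix.charpoly_toLin' _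
  have := isGeneralized_lift_split θ hθ ρL fun g => by
    rw [hcp]; exact hsp _ (ρ g).charpoly_monic (ρ g).charpoly_natDegree.le
  convert this using 1
  funext g
  rw [lift_roots, hcp]
  rfl

end CfsgLib.GLCusp
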