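import Cfsg.Agent.Lib.GLCusp.Lattice
import Cfsg.Agent.Lib.Classical.NilpotentCount

/-!
# The weighted number of endomorphisms with characteristic polynomial a given prime power
-/

set_option autoImplicit false

universe u v

namespace CfsgLib.GLCusp

open Polynomial Module
open scoped Classical

attribute [local instance] Fintype.ofFinite

section NilSum

variable {K : Type u} [Field K] [Finite K] {E : Type v} [AddCommGroup E] [Module K E] [Finite E]

omit [Finite K] in
instance finite_endo : Finite (E →ₗ[K] E) :=
  Finite.of_injective (fun f => (f : E → E)) DFunLike.coe_injective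

theorem card_nilpotent_end :
    Nat.card {N : Module.End K E // IsNilpotent N} = Nat.card K ^ (finrank K E * (finrank K E - 1)) := by
  have : Module.Finite K E := Module.Finite.of_finite
  let b := Module.finBasis K E
  have h1 : Nat.card {N : Module.End K E // IsNilpotent N} = NilCount.nilCard K (finrank K E) :=
    Nat.card_congr ((LinearMap.toMatrixAlgEquiv b).toEquiv.subtypeEquiv fun N =>
      (IsNilpotent.map_iff (LinearMap.toMatrixAlgEquiv b).injective).symm)
  rw [h1, NilCount.nilCard_eq, Fintype.card_eq_nat_card]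

/-- Nilpotent endomorphisms with range in `U`. -/
theorem card_nilpotent_range_le (U : Submodule K E) :
    Nat.card {N : Module.End K E // IsNilpotent N ∧ LinearMap.range N ≤ U} =
      Nat.card K ^ (finrank K U * (finrank K E - 1)) := by
  have : Module.Finite K E := Module.Finite.of_finite
  obtain ⟨C, hC⟩ := Submodule.exists_isCompl U
  have hexp : finrank K U * (finrank K E - 1) =
      finrank K U * (finrank K U - 1) + finrank K C * finrank K U := by
    have := Submodule.finrank_add_eq_of_isCompl hC
    rcases Nat.eq_zero_or_pos (finrank K U) with h | h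
    · simp [h]
    · rw [← this, mul_comm (finrank K C), ← mul_add]
      congr 1
      omega
  rw [hexp, pow_add, ← card_nilpotent_end (E := U), ← Module.finrank_linearMap K K C U,
    ← Module.natCard_eq_pow_finrank, ← Nat.card_prod]
  let asm : Module.End K U × (C →ₗ[K] U) → Module.End K E := fun P =>
    U.subtype ∘ₗ LinearMap.ofIsCompl hC P.1 P.2
  have hleft : ∀ P (u : U), asm P (u : E) = (P.1 u : E) := fun P u => by
    simp [asm]
  have hright : ∀ P (c : C), asm P (c : E) = (P.2 c : E) := fun P c => by
    simp [asm]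
  have hrange : ∀ P, LinearMap.range (asm P) ≤ U := fun P => by
    rintro _ ⟨x, rfl⟩
    exact Submodule.coe_mem _
  have hpow : ∀ P (j : ℕ) (u : U), ((asm P) ^ j) (u : E) = ((P.1 ^ j) u : E) := by
    intro P j
    induction j with
    | zero => intro u; rfl
    | succ j ih =>
      intro u
      rw [pow_succ, Module.End.mul_apply, hleft, ih, pow_succ, Module.End.mul_apply]
  refine Nat.card_congr
    { toFun := fun N => (⟨(N.1).restrict (p := U) (q := U) fun x _ => N.2.2 ⟨x, rfl⟩, ?_⟩,
        (N.1 ∘ₗ C.subtype).codRestrict U fun c => N.2.2 ⟨_, rfl⟩)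
      invFun := fun P => ⟨asm (P.1.1, P.2), ?_, hrange _⟩
      left_inv := fun N => Subtype.ext ?_
      right_inv := fun P => ?_ }
  · obtain ⟨j, hj⟩ := N.2.1
    exact ⟨j, LinearMap.ext fun x => Subtype.ext (by
      rw [Module.End.pow_restrict j, LinearMap.restrict_apply]
      exact LinearMap.congr_fun hj (x : E))⟩
  · obtain ⟨j, hj⟩ := P.1.2
    refine ⟨j + 1, LinearMap.ext fun x => ?_⟩
    rw [pow_succ, Module.End.mul_apply, show asm (P.1.1, P.2) x =
      ((⟨asm (P.1.1, P.2) x, hrange _ ⟨x, rfl⟩⟩ : U) : E) from rfl, hpow]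
    simp [hj]
  · refine LinearMap.ext fun x => ?_
    obtain ⟨u, c, rfl⟩ : ∃ (u : U) (c : C), (u : E) + (c : E) = x := by
      have hx : x ∈ U ⊔ C := hC.sup_eq_top ▸ Submodule.mem_top
      obtain ⟨u, hu, c, hc, e⟩ := Submodule.mem_sup.mp hx
      exact ⟨⟨u, hu⟩, ⟨c, hc⟩, e⟩
    simp only [map_add, hleft, hright]
    rfl
  · refine Prod.ext (Subtype.ext (LinearMap.ext fun u => Subtype.ext ?_))
      (LinearMap.ext fun c => Subtype.ext ?_)
    · exact hleft (P.1.1, P.2) u
    · exact hright (P.1.1, P.2) c

/-- The weighted sum over nilpotent endomorphisms. -/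
theorem sum_nilpotent (Q : ℂ) (hQK : Q = Nat.card K) (k : ℕ) (hk : finrank K E = k + 1) :
    ∑ N : Module.End K E, (if IsNilpotent N then hQ Q (k + 1 - finrank K (LinearMap.range N)) else 0) =
      Q ^ k * ∏ i ∈ Finset.range k, (Q ^ k - Q ^ i) := by
  have : Module.Finite K E := Module.Finite.of_finite
  rw [← qT_top]
  have hN : ∀ N : Module.End K E, hQ Q (k + 1 - finrank K (LinearMap.range N)) =
      -∑ U : Submodule K E, (if LinearMap.range N ≤ U then
        ((k + 1 - finrank K U : ℕ) : ℂ) * mob Q (k + 1 - finrank K U) else 0) := by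
    intro N
    set R := LinearMap.range N
    have hq : finrank K (E ⧸ R) = k + 1 - finrank K R := by
      have := R.finrank_quotient_add_finrank
      omega
    rw [hQ_eq, neg_inj, ← hq, qT]
    simp only [one_pow, mul_one]
    rw [hQK, ← sum_submodule (K := K) (E ⧸ R)
      (fun u => ((finrank K (E ⧸ R) - u : ℕ) : ℂ) * mob (Nat.card K : ℂ) (finrank K (E ⧸ R) - u))]
    refine Fintype.sum_of_injective (fun U : Submodule K (E ⧸ R) => U.comap R.mkQ)
      (Submodule.comap_injective_of_surjective R.mkQ_surjective) _ _ (fun U hU => ?_) fun U => ?_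
    · rw [if_neg]
      intro hle
      refine hU ⟨U.map R.mkQ, ?_⟩
      show (U.map R.mkQ).comap R.mkQ = U
      rw [Submodule.comap_map_mkQ, sup_eq_right.mpr hle]
    · have hle : R ≤ U.comap R.mkQ := fun x hx => by
        rw [Submodule.mem_comap, Submodule.mkQ_apply, (Submodule.Quotient.mk_eq_zero R).mpr hx]
        exact U.zero_mem
      rw [if_pos hle]
      have h1 := finrank_map_mkQ hle
      rw [Submodule.map_comap_eq_self (by rw [Submodule.range_mkQ]; exact le_top)] at h1
      rw [show finrank K (E ⧸ R) - finrank K U = k + 1 - finrank K (U.comap R.mkQ) by omega]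
  simp only [hN]
  have hswap : ∀ N : Module.End K E, (if IsNilpotent N then
      -∑ U : Submodule K E, (if LinearMap.range N ≤ U then
        ((k + 1 - finrank K U : ℕ) : ℂ) * mob Q (k + 1 - finrank K U) else 0) else 0) =
      -∑ U : Submodule K E, (if IsNilpotent N ∧ LinearMap.range N ≤ U then
        ((k + 1 - finrank K U : ℕ) : ℂ) * mob Q (k + 1 - finrank K U) else 0) := by
    intro N
    by_cases h : IsNilpotent N <;> simp [h]
  simp only [hswap]
  rw [Finset.sum_neg_distrib, Finset.sum_comm, neg_inj, qT]
  have hU : ∀ U : Submodule K E, ∑ N : Module.End K E,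
      (if IsNilpotent N ∧ LinearMap.range N ≤ U then
        ((k + 1 - finrank K U : ℕ) : ℂ) * mob Q (k + 1 - finrank K U) else 0) =
      ((k + 1 - finrank K U : ℕ) : ℂ) * mob Q (k + 1 - finrank K U) * (Q ^ k) ^ finrank K U := by
    intro U
    rw [← Finset.sum_filter, Finset.sum_const, nsmul_eq_mul, ← Fintype.card_subtype,
      Fintype.card_eq_nat_card, card_nilpotent_range_le, hk, hQK, Nat.add_sub_cancel, ← pow_mul,
      mul_comm k, Nat.cast_pow]
    ring
  simp only [hU]
  rw [hQK, ← hk, ← sum_submodule (K := K) E]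

end NilSum

end CfsgLib.GLCusp
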