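import Cfsg.Agent.Lib.GLCusp.Identity

/-!
# Cuspidality of the primary class function
-/

set_option autoImplicit false

universe u v w

namespace CfsgLib.GLCusp

open Polynomial Module
open scoped Classical

attribute [local instance] Fintype.ofFinite

/-- A sum over a group composed with a surjection vanishes with the sum over the image. -/
theorem sum_comp_surjective_zero {A B : Type*} [AddCommGroup A] [AddCommGroup B] [Finite A]
    [Finite B] (π : A →+ B) (hπ : Function.Surjective π) (H : B → ℂ) (h0 : ∑ b, H b = 0) :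
    ∑ a, H (π a) = 0 := by
  rw [← Finset.sum_fiberwise Finset.univ π]
  have hc : ∀ b, ∑ a ∈ Finset.univ.filter (fun a => π a = b), H (π a) = (Nat.card π.ker : ℂ) * H b := by
    intro b
    obtain ⟨a₀, rfl⟩ := hπ b
    rw [Finset.sum_congr rfl fun a ha => by rw [(Finset.mem_filter.mp ha).2], Finset.sum_const,
      nsmul_eq_mul, ← Fintype.card_subtype, Fintype.card_eq_nat_card]
    congr 2
    refine Nat.card_congr (Equiv.subtypeEquiv (Equiv.addRight (-a₀)) fun a => ?_)
    rw [Equiv.coe_addRight, AddMonoidHom.mem_ker, map_add, map_neg, add_neg_eq_zero]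
  simp only [hc, ← Finset.mul_sum, h0, mul_zero]

variable {F : Type u} [Field F] [Finite F] {L : Type w} [Field L] [Algebra F L] (θ : L →*₀ ℂ)

section

variable {V : Type v} [AddCommGroup V] [Module F V]

/-- The endomorphisms with range in `W` that kill `W`. -/
def rad (W : Submodule F V) : Submodule F (Module.End F V) where
  carrier := {T | (∀ x, T x ∈ W) ∧ ∀ w ∈ W, T w = 0}
  add_mem' := fun ha hb => ⟨fun x => W.add_mem (ha.1 x) (hb.1 x),
    fun w hw => by rw [LinearMap.add_apply, ha.2 w hw, hb.2 w hw, add_zero]⟩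
  zero_mem' := ⟨fun _ => W.zero_mem, fun _ _ => rfl⟩
  smul_mem' := fun c T h => ⟨fun x => W.smul_mem c (h.1 x),
    fun w hw => by rw [LinearMap.smul_apply, h.2 w hw, smul_zero]⟩

variable [FiniteDimensional F V]

instance finiteEnd : Finite (Module.End F V) := by
  have : Finite V := Module.finite_of_finite F
  exact Finite.of_injective (fun f => (f : V → V)) DFunLike.coe_injective

omit [Finite F] in
/-- The subspaces complementary to `W` inside a preimage, with their translates. -/
theorem card_pairs {W : Submodule F V} {g : Module.End F V} (hg : Inv g W)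
    (Pb : Submodule F (V ⧸ W)) (hP : Inv (W.mapQ W g hg) Pb) :
    Nat.card {x : Submodule F V × rad W //
      Disjoint x.1 W ∧ x.1.map W.mkQ = Pb ∧ Inv (g + (x.2 : Module.End F V)) x.1} =
    Nat.card (rad W) := by
  obtain ⟨s, hs⟩ := W.mkQ.exists_rightInverse_of_surjective W.range_mkQ
  have hsx : ∀ z, W.mkQ (s z) = z := LinearMap.congr_fun hs
  set B := Pb.map s with hB
  have hBW : Disjoint B W := Submodule.disjoint_def.mpr fun x hx hxW => by
    obtain ⟨z, -, rfl⟩ := hx
    have : W.mkQ (s z) = 0 := (Submodule.Quotient.mk_eq_zero W).mpr hxW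
    rw [hsx] at this
    rw [this, map_zero]
  have hBm : B.map W.mkQ = Pb := by
    rw [hB, ← Submodule.map_comp, hs, Submodule.map_id]
  have hinjB : LinearMap.ker (W.mkQ.domRestrict B) = ⊥ := by
    rw [LinearMap.ker_eq_bot']
    exact fun b hb => Subtype.ext (Submodule.disjoint_def.mp hBW b b.2
      ((Submodule.Quotient.mk_eq_zero W).mp hb))
  obtain ⟨r, hr⟩ := (W.mkQ.domRestrict B).exists_leftInverse_of_injective hinjB
  set p : Module.End F V := B.subtype ∘ₗ r ∘ₗ W.mkQ with hp
  have hpB : ∀ b ∈ B, p b = b := fun b hb => congrArg Subtype.val (LinearMap.congr_fun hr ⟨b, hb⟩)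
  have hpW : ∀ w ∈ W, p w = 0 := fun w hw => by
    rw [hp, LinearMap.comp_apply, LinearMap.comp_apply, Submodule.mkQ_apply,
      (Submodule.Quotient.mk_eq_zero W).mpr hw, map_zero, map_zero]
  have hpmem : ∀ x, p x ∈ B := fun x => (r (W.mkQ x)).2
  have hpP : ∀ y, W.mkQ y ∈ Pb → p y - y ∈ W := fun y hy => by
    rw [← hBm] at hy
    obtain ⟨b, hb, hby⟩ := hy
    have : p y = b := by rw [← hpB b hb]; simp only [hp, LinearMap.comp_apply, hby]
    rw [this]
    exact (Submodule.Quotient.eq W).mp hby
  have hpPb : ∀ x, W.mkQ (p x) ∈ Pb := fun x => hBm ▸ Submodule.mem_map_of_mem (hpmem x)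
  set τ : Module.End F V := (p * g - g) * p with hτ
  have hτmem : τ ∈ rad W := by
    refine ⟨fun x => ?_, fun w hw => ?_⟩
    · show p (g (p x)) - g (p x) ∈ W
      refine hpP _ ?_
      exact hP _ (hpPb x)
    · show p (g (p w)) - g (p w) = 0
      rw [hpW w hw]; simp
  have hτB : ∀ b ∈ B, (g + τ) b = p (g b) := fun b hb => by
    rw [LinearMap.add_apply, hτ, Module.End.mul_apply, LinearMap.sub_apply, Module.End.mul_apply,
      hpB b hb, add_sub_cancel]
  -- translation by `1 + S`
  have hconj : ∀ (S T : Module.End F V), S ∈ rad W → T ∈ rad W → ∀ x,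
      (g + (T + (S * g - g * S))) (x + S x) = (g + T) x + S ((g + T) x) := by
    intro S T hS hT x
    have h1 : T (S x) = 0 := hT.2 _ (hS.1 x)
    have h2 : S (T x) = 0 := hS.2 _ (hT.1 x)
    have h3 : S (S x) = 0 := hS.2 _ (hS.1 x)
    have h4 : S (g (S x)) = 0 := hS.2 _ (hg _ (hS.1 x))
    simp only [LinearMap.add_apply, LinearMap.sub_apply, Module.End.mul_apply, map_add, h1, h2, h3,
      h4, map_zero]
    abel
  have hcomm : ∀ S ∈ rad W, S * g - g * S ∈ rad W := fun S hS => by
    refine ⟨fun x => W.sub_mem (hS.1 _) (hg _ (hS.1 x)), fun w hw => ?_⟩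
    rw [LinearMap.sub_apply, Module.End.mul_apply, Module.End.mul_apply, hS.2 w hw,
      hS.2 _ (hg w hw), map_zero, sub_zero]
  have hinvB : ∀ T ∈ rad W, (Inv (g + T) B ↔ ∀ b ∈ B, T b = τ b) := fun T hT => by
    constructor
    · intro h b hb
      have h1 : (g + T) b - (g + τ) b ∈ B := B.sub_mem (h b hb) (hτB b hb ▸ hpmem _)
      rw [show (g + T) b - (g + τ) b = T b - τ b by simp] at h1
      exact sub_eq_zero.mp (Submodule.disjoint_def.mp hBW _ h1 (W.sub_mem (hT.1 b) (hτmem.1 b)))
    · intro h b hb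
      rw [LinearMap.add_apply, h b hb, ← LinearMap.add_apply, hτB b hb]
      exact hpmem _
  let Sp : rad W → Module.End F V := fun S => (S : Module.End F V) * p
  have hSp : ∀ S, Sp S ∈ rad W := fun S =>
    ⟨fun x => S.2.1 _, fun w hw => by show S.1 (p w) = 0; rw [hpW w hw, map_zero]⟩
  let T₀ : rad W → Module.End F V := fun S => τ + ((S : Module.End F V) - Sp S)
  have hT₀ : ∀ S, T₀ S ∈ rad W := fun S => (rad W).add_mem hτmem ((rad W).sub_mem S.2 (hSp S))
  let Ymap : rad W → Submodule F V := fun S => B.map (LinearMap.id + Sp S)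
  let Tmap : rad W → rad W := fun S => ⟨T₀ S + (Sp S * g - g * Sp S),
    (rad W).add_mem (hT₀ S) (hcomm _ (hSp S))⟩
  have hok : ∀ S, Disjoint (Ymap S) W ∧ (Ymap S).map W.mkQ = Pb ∧
      Inv (g + (Tmap S : Module.End F V)) (Ymap S) := by
    intro S
    have hker : W.mkQ ∘ₗ (LinearMap.id + Sp S) = W.mkQ := by
      ext x
      simp only [LinearMap.comp_apply, LinearMap.add_apply, LinearMap.id_apply, map_add]
      rw [Submodule.mkQ_apply, Submodule.mkQ_apply, (Submodule.Quotient.mk_eq_zero W).mpr ((hSp S).1 x),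
        add_zero]
    refine ⟨Submodule.disjoint_def.mpr ?_, ?_, ?_⟩
    · rintro _ ⟨b, hb, rfl⟩ hW
      have h1 : b ∈ W := by
        have := W.sub_mem hW ((hSp S).1 b)
        simpa using this
      rw [Submodule.disjoint_def.mp hBW b hb h1, map_zero]
    · show (B.map _).map _ = _
      rw [← Submodule.map_comp, hker, hBm]
    · rintro _ ⟨b, hb, rfl⟩
      refine ⟨(g + T₀ S) b, (hinvB _ (hT₀ S)).mpr (fun c hc => ?_) b hb, ?_⟩
      · show τ c + (S.1 c - S.1 (p c)) = τ c
        rw [hpB c hc, sub_self, add_zero]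
      · exact (hconj _ _ (hSp S) (hT₀ S) b).symm
  symm
  refine Nat.card_congr (Equiv.ofBijective (fun S => ⟨(Ymap S, Tmap S), hok S⟩) ⟨?_, ?_⟩)
  · intro S S' h
    have hY : Ymap S = Ymap S' := congrArg (fun x => x.1.1) h
    have hT : (Tmap S : Module.End F V) = Tmap S' := congrArg (fun x => (x.1.2 : Module.End F V)) h
    have hE : Sp S = Sp S' := by
      ext x
      have hb := hpmem x
      obtain ⟨b', hb', he⟩ := (hY ▸ Submodule.mem_map_of_mem hb :
        (LinearMap.id + Sp S : V →ₗ[F] V) (p x) ∈ Ymap S')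
      simp only [LinearMap.add_apply, LinearMap.id_apply] at he
      have h1 : b' - p x = Sp S (p x) - Sp S' b' := by
        rw [sub_eq_sub_iff_add_eq_add, he, add_comm]
      have h2 : b' - p x = 0 := Submodule.disjoint_def.mp hBW _ (B.sub_mem hb' hb)
        (h1 ▸ W.sub_mem ((hSp S).1 _) ((hSp S').1 _))
      rw [h2, sub_eq_zero.mp h2, eq_comm, sub_eq_zero] at h1
      show S.1 (p x) = S'.1 (p x)
      have hpp : p (p x) = p x := hpB _ hb
      simpa [Sp, hpp] using h1
    refine Subtype.ext ?_
    simp only [Tmap, T₀, hE] at hT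
    simpa using hT
  · rintro ⟨⟨Y, T⟩, hYW, hYm, hinv⟩
    dsimp only at hYW hYm hinv
    have hinjY : LinearMap.ker (W.mkQ.domRestrict Y) = ⊥ := by
      rw [LinearMap.ker_eq_bot']
      exact fun y hy => Subtype.ext (Submodule.disjoint_def.mp hYW y y.2
        ((Submodule.Quotient.mk_eq_zero W).mp hy))
    obtain ⟨rY, hrY⟩ := (W.mkQ.domRestrict Y).exists_leftInverse_of_injective hinjY
    have hrYy : ∀ y (hy : y ∈ Y), (rY (W.mkQ y) : V) = y := fun y hy =>
      congrArg Subtype.val (LinearMap.congr_fun hrY ⟨y, hy⟩)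
    set S' : Module.End F V := (Y.subtype ∘ₗ rY ∘ₗ W.mkQ - LinearMap.id) * p with hS'
    have hS'x : ∀ x, S' x = (rY (W.mkQ (p x)) : V) - p x := fun x => rfl
    have hS'mem : S' ∈ rad W := by
      refine ⟨fun x => ?_, fun w hw => ?_⟩
      · rw [hS'x]
        have := hpPb x
        rw [← hYm] at this
        obtain ⟨y, hy, hyx⟩ := this
        rw [← hyx, hrYy y hy]
        exact (Submodule.Quotient.eq W).mp hyx
      · rw [hS'x, hpW w hw, map_zero, map_zero, Submodule.coe_zero, sub_zero]
    have hS'p : ∀ x, S' (p x) = S' x := fun x => by rw [hS'x, hS'x, hpB _ (hpmem x)]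
    set U₀ : Module.End F V := (T : Module.End F V) - (S' * g - g * S') with hU
    have hUmem : U₀ ∈ rad W := (rad W).sub_mem T.2 (hcomm _ hS'mem)
    have hUB : ∀ b ∈ B, U₀ b = τ b := by
      refine (hinvB _ hUmem).mp fun b hb => ?_
      have hmem : b + S' b ∈ Y := by
        rw [hS'x, hpB b hb, add_sub_cancel]
        exact Submodule.coe_mem _
      have h1 := hinv _ hmem
      rw [show (T : Module.End F V) = U₀ + (S' * g - g * S') by rw [hU, sub_add_cancel],
        hconj _ _ hS'mem hUmem b] at h1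
      have hq : W.mkQ ((g + U₀) b) ∈ Pb := by
        have h2 := Submodule.mem_map_of_mem (f := W.mkQ) h1
        rw [hYm, map_add] at h2
        rwa [Submodule.mkQ_apply W (S' _), (Submodule.Quotient.mk_eq_zero W).mpr (hS'mem.1 _),
          add_zero] at h2
      -- `(g + U₀) b` is the element of `B` over its class
      set z := (g + U₀) b with hz
      have h3 : z + S' z = (rY (W.mkQ z) : V) := by
        have := hrYy _ h1
        rw [map_add, Submodule.mkQ_apply W (S' z), (Submodule.Quotient.mk_eq_zero W).mpr (hS'mem.1 z),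
          add_zero] at this
        exact this.symm
      have h4 : W.mkQ (p z) = W.mkQ z := (Submodule.Quotient.eq W).mpr (hpP z hq)
      rw [hS'x z, h4, add_sub, sub_eq_iff_eq_add, add_comm (rY (W.mkQ z) : V), add_left_inj] at h3
      rw [h3]
      exact hpmem z
    let S : rad W := ⟨S' + (U₀ - τ), (rad W).add_mem hS'mem ((rad W).sub_mem hUmem hτmem)⟩
    have hE : Sp S = S' := by
      ext x
      show S' (p x) + (U₀ (p x) - τ (p x)) = S' x
      rw [hUB _ (hpmem x), sub_self, add_zero, hS'p]
    refine ⟨S, Subtype.ext (Prod.ext ?_ (Subtype.ext ?_))⟩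
    · show B.map (LinearMap.id + Sp S) = Y
      rw [hE]
      ext y
      constructor
      · rintro ⟨b, hb, rfl⟩
        rw [LinearMap.add_apply, LinearMap.id_apply, hS'x, hpB b hb, add_sub_cancel]
        exact Submodule.coe_mem _
      · intro hy
        refine ⟨p y, hpmem y, ?_⟩
        have h4 : W.mkQ (p y) = W.mkQ y :=
          (Submodule.Quotient.eq W).mpr (hpP y (hYm ▸ Submodule.mem_map_of_mem hy))
        rw [LinearMap.add_apply, LinearMap.id_apply, hS'p, hS'x, h4, hrYy y hy, add_sub_cancel]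
    · show T₀ S + (Sp S * g - g * Sp S) = (T : Module.End F V)
      show τ + (S' + (U₀ - τ) - Sp S) + (Sp S * g - g * Sp S) = _
      rw [hE, hU]
      abel

end

theorem cusp_aux : ∀ (N : ℕ) (V : Type v) [AddCommGroup V] [Module F V] [FiniteDimensional F V],
    finrank F V = N → ∀ (g : Module.End F V) (W : Submodule F V), W ≠ ⊥ → W ≠ ⊤ → Inv g W →
      ∑ T : rad W, phi θ (g + (T : Module.End F V)) = 0 := by
  intro N
  induction N using Nat.strong_induction_on with
  | _ N ih => ?_
  intro V _ _ _ hN g W hW0 hW1 hg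
  have : Finite V := Module.finite_of_finite F
  set Sm : Submodule F V → ℂ := fun Y => ∑ T : rad W, phiW θ (g + (T : Module.End F V)) Y with hSm
  set gb := W.mapQ W g hg
  have hinvW : ∀ T : rad W, Inv (g + (T : Module.End F V)) W := fun T w hw => by
    rw [LinearMap.add_apply, T.2.2 w hw, add_zero]; exact hg w hw
  have hlift : ∀ T : rad W, lift θ (g + (T : Module.End F V)) =
      lift θ (g.restrict hg) + lift θ gb := by
    intro T
    rw [lift_split θ _ W (hinvW T)]
    congr 2
    · ext x
      show g x + T.1 x = g x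
      rw [T.2.2 x x.2, add_zero]
    · refine Submodule.linearMap_qext _ (LinearMap.ext fun x => ?_)
      show (Submodule.Quotient.mk (g x + T.1 x) : V ⧸ W) = Submodule.Quotient.mk (g x)
      rw [Submodule.Quotient.eq, add_sub_cancel_left]
      exact T.2.1 x
  have htot : ∑ Y, Sm Y = (Nat.card (rad W) : ℂ) * (lift θ (g.restrict hg) + lift θ gb) := by
    rw [hSm, Finset.sum_comm]
    simp only [sum_phiW, hlift]
    rw [Finset.sum_const, Finset.card_univ, nsmul_eq_mul, Fintype.card_eq_nat_card]
  have hlow : ∑ Y, (if Y ≤ W then Sm Y else 0) = (Nat.card (rad W) : ℂ) * lift θ (g.restrict hg) := by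
    rw [← sum_phiW θ (g.restrict hg), ← sum_phiW_below θ g hg, Finset.mul_sum]
    refine Fintype.sum_congr _ _ fun Y => ?_
    split_ifs with hY
    · have : ∀ T : rad W, phiW θ (g + (T : Module.End F V)) Y = phiW θ g Y := fun T => by
        have heq : ∀ y ∈ Y, (g + (T : Module.End F V)) y = g y := fun y hy => by
          rw [LinearMap.add_apply, T.2.2 y (hY hy), add_zero]
        by_cases h : Inv g Y
        · have h' := phiW_map θ LinearMap.id (g := g) (g' := g + (T : Module.End F V))
            (by rw [LinearMap.ker_id]; exact disjoint_bot_right) (fun y hy => (heq y hy).symm) h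
          rwa [Submodule.map_id] at h'
        · rw [phiW_eq_zero θ h, phiW_eq_zero θ fun h' => h fun y hy => heq y hy ▸ h' y hy]
      rw [hSm]
      simp only [this]
      rw [Finset.sum_const, Finset.card_univ, nsmul_eq_mul, Fintype.card_eq_nat_card]
    · rw [mul_zero]
  have hdisj : ∑ Y, (if Disjoint Y W then Sm Y else 0) = (Nat.card (rad W) : ℂ) * lift θ gb := by
    rw [← sum_phiW θ gb, Finset.mul_sum,
      ← Finset.sum_fiberwise Finset.univ (fun Y : Submodule F V => Y.map W.mkQ)]
    refine Fintype.sum_congr _ _ fun Pb => ?_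
    have hterm : ∀ Y ∈ Finset.univ.filter (fun Y : Submodule F V => Y.map W.mkQ = Pb),
        (if Disjoint Y W then Sm Y else 0) = ∑ T : rad W,
          if Disjoint Y W ∧ Y.map W.mkQ = Pb ∧ Inv (g + (T : Module.End F V)) Y then phiW θ gb Pb
          else 0 := by
      intro Y hY
      have hYm := (Finset.mem_filter.mp hY).2
      by_cases hd : Disjoint Y W
      swap
      · simp [hd]
      rw [if_pos hd]
      refine Fintype.sum_congr _ _ fun T => ?_
      by_cases hi : Inv (g + (T : Module.End F V)) Y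
      · rw [if_pos ⟨hd, hYm, hi⟩, ← hYm]
        refine (phiW_map θ W.mkQ (by rw [Submodule.ker_mkQ]; exact hd) (fun y _ => ?_) hi).symm
        show (Submodule.Quotient.mk (g y + T.1 y) : V ⧸ W) = Submodule.Quotient.mk (g y)
        rw [Submodule.Quotient.eq, add_sub_cancel_left]
        exact T.2.1 y
      · rw [phiW_eq_zero θ hi, if_neg fun h => hi h.2.2]
    rw [Finset.sum_congr rfl hterm, ← Finset.sum_product', ← Finset.sum_filter, Finset.sum_const,
      nsmul_eq_mul]
    by_cases hP : Inv gb Pb
    swap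
    · rw [phiW_eq_zero θ hP, mul_zero, mul_zero]
    congr 1
    rw [← card_pairs hg Pb hP, Nat.card_eq_fintype_card, Fintype.card_subtype]
    congr 1
    refine congrArg Finset.card ?_
    ext x
    simp only [Finset.mem_filter, Finset.mem_product, Finset.mem_univ, true_and, and_true]
    exact ⟨fun h => h.2, fun h => ⟨h.2.1, h⟩⟩
  have hother : ∀ Y : Submodule F V, ¬ Y ≤ W → ¬ Disjoint Y W → Y ≠ ⊤ → Sm Y = 0 := by
    intro Y hYW hYd hYT
    by_cases hex : ∃ T : rad W, Inv (g + (T : Module.End F V)) Y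
    swap
    · exact Finset.sum_eq_zero fun T _ => phiW_eq_zero θ fun h => hex ⟨T, h⟩
    obtain ⟨T₁, hT₁⟩ := hex
    let R : Submodule F (rad W) :=
      { carrier := {T | ∀ y ∈ Y, (T : Module.End F V) y ∈ Y}
        add_mem' := fun ha hb y hy => Y.add_mem (ha y hy) (hb y hy)
        zero_mem' := fun _ _ => Y.zero_mem
        smul_mem' := fun c T h y hy => Y.smul_mem c (h y hy) }
    set W' := W.comap Y.subtype with hW'
    let π : R →+ rad W' :=
      { toFun := fun r => ⟨(r.1.1).restrict r.2,
          ⟨fun y => r.1.2.1 (y : V), fun y hy => Subtype.ext (r.1.2.2 (y : V) hy)⟩⟩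
        map_zero' := rfl
        map_add' := fun _ _ => rfl }
    have hπ : Function.Surjective π := by
      intro T'
      obtain ⟨σ, hσ⟩ := (W.mkQ.domRestrict Y).rangeRestrict.exists_rightInverse_of_surjective
        (LinearMap.range_rangeRestrict _)
      obtain ⟨E, hE⟩ := (Y.subtype ∘ₗ T'.1 ∘ₗ σ).exists_extend
      obtain ⟨P, hP⟩ := W.subtype.exists_leftInverse_of_injective W.ker_subtype
      set T₂ : Module.End F V := W.subtype ∘ₗ P ∘ₗ E ∘ₗ W.mkQ with hT₂
      have hT₂m : T₂ ∈ rad W := ⟨fun x => Submodule.coe_mem _, fun w hw => by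
        rw [hT₂, LinearMap.comp_apply, LinearMap.comp_apply, LinearMap.comp_apply, Submodule.mkQ_apply,
          (Submodule.Quotient.mk_eq_zero W).mpr hw, map_zero, map_zero, map_zero]⟩
      have hval : ∀ y : Y, T₂ y = (T'.1 y : V) := by
        intro y
        set j := (W.mkQ.domRestrict Y).rangeRestrict with hj
        have h1 : E (W.mkQ (y : V)) = (T'.1 (σ (j y)) : V) := LinearMap.congr_fun hE (j y)
        have h2 : σ (j y) - y ∈ W' := by
          show (Y.subtype (σ (j y) - y)) ∈ W
          have h3 : j (σ (j y)) = j y := LinearMap.congr_fun hσ (j y)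
          exact (Submodule.Quotient.eq W).mp (congrArg Subtype.val h3)
        have h4 : T'.1 (σ (j y)) = T'.1 y := sub_eq_zero.mp (by rw [← map_sub]; exact T'.2.2 _ h2)
        rw [h4] at h1
        rw [hT₂, LinearMap.comp_apply, LinearMap.comp_apply, LinearMap.comp_apply, h1]
        exact congrArg Subtype.val (LinearMap.congr_fun hP ⟨(T'.1 y : V), T'.2.1 y⟩)
      refine ⟨⟨⟨T₂, hT₂m⟩, fun y hy => ?_⟩, Subtype.ext (LinearMap.ext fun y => Subtype.ext (hval y))⟩
      show T₂ y ∈ Y
      rw [hval ⟨y, hy⟩]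
      exact Submodule.coe_mem _
    set g' := (g + (T₁ : Module.End F V)).restrict hT₁
    have hg' : Inv g' W' := fun y hy => hinvW T₁ (y : V) hy
    have hW'0 : W' ≠ ⊥ := fun h => hYd (Submodule.disjoint_def.mpr fun y hy hyW => by
      have h1 : (⟨y, hy⟩ : Y) ∈ W' := hyW
      rw [h, Submodule.mem_bot] at h1
      exact congrArg Subtype.val h1)
    have hW'1 : W' ≠ ⊤ := fun h => hYW fun y hy => (Submodule.eq_top_iff'.mp h ⟨y, hy⟩ : _)
    have h0 := ih _ (hN ▸ Submodule.finrank_lt hYT) Y rfl g' W' hW'0 hW'1 hg'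
    have h1 := sum_comp_surjective_zero π hπ (fun b => phi θ (g' + (b : Module.End F Y))) (by convert h0)
    refine (Fintype.sum_of_injective (fun r : R => T₁ + r.1)
      (fun a b h => Subtype.ext (add_left_cancel h)) (fun r => phi θ (g' + (π r : Module.End F Y))) _
      (fun T hT => ?_) fun r => ?_).symm.trans (by convert h1)
    · refine phiW_eq_zero θ fun h => hT ⟨⟨T - T₁, fun y hy => ?_⟩, add_sub_cancel T₁ T⟩
      have := Y.sub_mem (h y hy) (hT₁ y hy)
      simpa using this
    · have hr : Inv (g + ((T₁ + r.1 : rad W) : Module.End F V)) Y := fun y hy => by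
        have := Y.add_mem (hT₁ y hy) (r.2 y hy)
        simpa [add_assoc] using this
      show _ = phiW θ (g + ((T₁ + r.1 : rad W) : Module.End F V)) Y
      rw [phiW_eq θ hr]
      congr 1
      ext y
      show (g y + T₁.1 y) + r.1.1 y = g y + (T₁.1 y + r.1.1 y)
      rw [add_assoc]
  have hpoint : ∀ Y, Sm Y = (if Y ≤ W then Sm Y else 0) + (if Disjoint Y W then Sm Y else 0) +
      (if Y = ⊤ then Sm Y else 0) := by
    intro Y
    by_cases h3 : Y = ⊤
    · subst h3
      rw [if_neg (fun h => hW1 (top_le_iff.mp h)), if_neg (fun h => hW0 (top_disjoint.mp h)),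
        if_pos rfl]; ring
    by_cases h1 : Y ≤ W
    · by_cases h2 : Disjoint Y W
      · have : Y = ⊥ := h2.eq_bot_of_le h1
        subst this
        have : Sm ⊥ = 0 := Finset.sum_eq_zero fun T _ => phiW_bot θ _
        simp [this]
      · rw [if_pos h1, if_neg h2, if_neg h3]; ring
    · by_cases h2 : Disjoint Y W
      · rw [if_neg h1, if_pos h2, if_neg h3]; ring
      · rw [hother Y h1 h2 h3]; simp
  have hfin : ∑ Y, Sm Y = (Nat.card (rad W) : ℂ) * lift θ (g.restrict hg) +
      (Nat.card (rad W) : ℂ) * lift θ gb + Sm ⊤ := by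
    conv_lhs => rw [Fintype.sum_congr _ _ hpoint]
    rw [Finset.sum_add_distrib, Finset.sum_add_distrib, hlow, hdisj, Finset.sum_ite_eq']
    simp
  rw [htot, mul_add] at hfin
  have : Sm ⊤ = 0 := by linear_combination -hfin
  rw [hSm] at this
  simpa only [phiW_top] using this

/-- **Cuspidality**: `phi` sums to zero over the cosets of the unipotent radicals. -/
theorem cusp {V : Type v} [AddCommGroup V] [Module F V] [FiniteDimensional F V]
    (g : Module.End F V) {W : Submodule F V} (hW0 : W ≠ ⊥) (hW1 : W ≠ ⊤) (hg : Inv g W) :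
    ∑ T : rad W, phi θ (g + (T : Module.End F V)) = 0 :=
  cusp_aux θ _ V rfl g W hW0 hW1 hg

end CfsgLib.GLCusp
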