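import Cfsg.Agent.Lib.GLCusp.Lattice

/-!
# The general identity `∑_W phiW g W = lift g`
-/

set_option autoImplicit false

universe u v w

namespace CfsgLib.GLCusp

open Polynomial Module
open scoped Classical

attribute [local instance] Fintype.ofFinite

variable {F : Type u} [Field F] [Finite F] {L : Type w} [Field L] [Algebra F L] (θ : L →*₀ ℂ)

omit [Finite F] in
/-- The subspaces inside an invariant subspace. -/
theorem sum_phiW_below {V : Type v} [AddCommGroup V] [Module F V] [FiniteDimensional F V] [Finite V]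
    (g : Module.End F V) {A : Submodule F V} (hA : Inv g A) :
    ∑ W : Submodule F V, (if W ≤ A then phiW θ g W else 0) =
      ∑ W : Submodule F A, phiW θ (g.restrict hA) W := by
  symm
  refine Fintype.sum_of_injective (fun W : Submodule F A => W.map A.subtype)
    (Submodule.map_injective_of_injective A.injective_subtype) _ _ (fun W hW => ?_) fun W => ?_
  · rw [if_neg]
    intro hle
    exact hW ⟨W.comap A.subtype, Submodule.map_comap_eq_self (by rw [Submodule.range_subtype]; exact hle)⟩
  · rw [if_pos (Submodule.map_subtype_le A W),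
      phiW_map_injective θ A.subtype A.injective_subtype (g := g.restrict hA) (fun _ => rfl) W]

theorem sum_phiW_aux : ∀ (N : ℕ) (V : Type v) [AddCommGroup V] [Module F V] [FiniteDimensional F V]
    [Finite V], finrank F V = N → ∀ g : Module.End F V,
      ∑ W : Submodule F V, phiW θ g W = lift θ g := by
  intro N
  induction N using Nat.strong_induction_on with
  | _ N ih => ?_
  intro V _ _ _ _ hN g
  by_cases hu : IsUnit g.charpoly
  · have h0 : finrank F V = 0 := by rw [← g.charpoly_natDegree, natDegree_eq_zero_of_isUnit hu]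
    rw [lift_of_finrank_zero θ g h0]
    refine Finset.sum_eq_zero fun W _ => ?_
    by_cases hW : Inv g W
    · rw [phiW_eq θ hW]
      exact phi_of_finrank_zero θ _ (Nat.eq_zero_of_le_zero (h0 ▸ Submodule.finrank_le W))
    · exact phiW_eq_zero θ hW
  obtain ⟨f₀, hf₀, hfd⟩ := WfDvdMonoid.exists_irreducible_factor hu g.charpoly_monic.ne_zero
  set f := normalize f₀ with hf'
  have hf : Irreducible f := (associated_normalize f₀).irreducible hf₀
  have hm : f.Monic := monic_normalize hf₀.ne_zero
  have hfc : f ∣ g.charpoly := (normalize_dvd_iff).mpr hfd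
  obtain ⟨a, b, hb, hab⟩ := (FiniteMultiplicity.of_prime_left hf.prime
    g.charpoly_monic.ne_zero).exists_eq_pow_mul_and_not_dvd |>
      fun ⟨c, h1, h2⟩ => (⟨_, c, h2, h1⟩ : ∃ (a : ℕ) (c : F[X]), ¬ f ∣ c ∧ g.charpoly = f ^ a * c)
  have hbm : b.Monic := (hm.pow a).of_mul_monic_left (hab ▸ g.charpoly_monic)
  by_cases hbu : IsUnit b
  · rw [hbm.isUnit_iff.mp hbu, mul_one] at hab
    exact sum_phiW_primary θ g hf hm hab
  have hcop : IsCoprime (f ^ a) b := (hf.coprime_iff_not_dvd.mpr hb).pow_left
  have ha : a ≠ 0 := by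
    rintro rfl
    rw [pow_zero, one_mul] at hab
    exact hb (hab ▸ hfc)
  set A := LinearMap.ker (aeval g (f ^ a)) with hA'
  set B := LinearMap.ker (aeval g b) with hB'
  have hA : Inv g A := fun x hx => by
    rw [hA', LinearMap.mem_ker, ← semiconj_aeval g (fun _ => rfl), LinearMap.mem_ker.mp hx, map_zero]
  have hB : Inv g B := fun x hx => by
    rw [hB', LinearMap.mem_ker, ← semiconj_aeval g (fun _ => rfl), LinearMap.mem_ker.mp hx, map_zero]
  have hdisj : Disjoint A B := disjoint_ker_aeval_of_isCoprime g hcop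
  have hsup : A ⊔ B = ⊤ := by
    rw [sup_ker_aeval_eq_ker_aeval_mul_of_coprime g hcop, ← hab, g.aeval_self_charpoly,
      LinearMap.ker_zero]
  have hAlt : finrank F A < finrank F V := by
    refine Submodule.finrank_lt fun htop => ?_
    obtain ⟨r, hr, hrb⟩ := WfDvdMonoid.exists_irreducible_factor hbu hbm.ne_zero
    have h1 : aeval g (f ^ a) = 0 := LinearMap.ker_eq_top.mp htop
    exact hr.not_isUnit (hcop.isUnit_of_dvd' (dvd_of_aeval_eq_zero hr
      (hab ▸ hrb.trans (dvd_mul_left _ _)) h1) hrb)
  have hBlt : finrank F B < finrank F V := by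
    refine Submodule.finrank_lt fun htop => ?_
    exact hb (dvd_of_aeval_eq_zero hf hfc (LinearMap.ker_eq_top.mp htop))
  have hsplit : lift θ g = lift θ (g.restrict hA) + lift θ (g.restrict hB) := by
    rw [lift_split θ g A hA]
    congr 1
    refine lift_congr θ (A.quotientEquivOfIsCompl B ⟨hdisj, codisjoint_iff.mpr hsup⟩).symm
      fun x => ?_
    simp only [Submodule.quotientEquivOfIsCompl_symm_apply]
    rfl
  rw [hsplit, ← ih _ (hN ▸ hAlt) A rfl, ← ih _ (hN ▸ hBlt) B rfl, ← sum_phiW_below θ g hA,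
    ← sum_phiW_below θ g hB, ← Finset.sum_add_distrib]
  refine Fintype.sum_congr _ _ fun W => ?_
  by_cases hWi : Inv g W
  swap
  · simp [phiW_eq_zero θ hWi]
  by_cases hz : phiW θ g W = 0
  · simp [hz]
  obtain ⟨r, hrm, hri, j, hj, hjc⟩ : ∃ r, IsPrimary (g.restrict hWi) r := by
    by_contra hne
    rw [phiW_eq θ hWi] at hz
    exact hz (phi_eq_zero θ fun r hr => hne ⟨r, hr⟩)
  have hkill : ∀ x ∈ W, aeval g (r ^ j) x = 0 := fun x hx => by
    have := congrArg Subtype.val (LinearMap.congr_fun (g.restrict hWi).aeval_self_charpoly ⟨x, hx⟩)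
    rw [hjc, restrict_aeval hWi] at this
    exact this
  have key : ∀ c d : F[X], c * d = g.charpoly → IsCoprime (r ^ j) c →
      W ≤ LinearMap.ker (aeval g d) := by
    intro c d hcd hc x hx
    have h1 : aeval g d x ∈ LinearMap.ker (aeval g c) := by
      rw [LinearMap.mem_ker, ← Module.End.mul_apply, ← map_mul, hcd, g.aeval_self_charpoly]; rfl
    have h2 : aeval g d x ∈ LinearMap.ker (aeval g (r ^ j)) :=
      LinearMap.mem_ker.mpr (hkill _ (inv_aeval hWi d x hx))
    exact (Submodule.mem_bot F).mp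
      ((disjoint_ker_aeval_of_isCoprime g hc).le_bot ⟨h2, h1⟩)
  have hne : W ≠ ⊥ := fun h => hz (by rw [h, phiW_bot])
  rcases (em (r ∣ f ^ a)) with hr | hr
  · have hrb : ¬ r ∣ b := fun h => hri.not_isUnit (hcop.isUnit_of_dvd' hr h)
    have hWA : W ≤ A := key b (f ^ a) (by rw [hab, mul_comm])
      (hri.coprime_iff_not_dvd.mpr hrb).pow_left
    rw [if_pos hWA, if_neg fun hWB => hne (le_bot_iff.mp (hdisj.le_bot.trans' (le_inf hWA hWB))),
      add_zero]
  · have hWB : W ≤ B := key (f ^ a) b hab.symm (hri.coprime_iff_not_dvd.mpr hr).pow_left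
    rw [if_pos hWB, if_neg fun hWA => hne (le_bot_iff.mp (hdisj.le_bot.trans' (le_inf hWA hWB))),
      zero_add]

theorem sum_phiW {V : Type v} [AddCommGroup V] [Module F V] [FiniteDimensional F V] [Finite V]
    (g : Module.End F V) : ∑ W : Submodule F V, phiW θ g W = lift θ g :=
  sum_phiW_aux θ _ V rfl g

end CfsgLib.GLCusp
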