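import Cfsg.Agent.Lib.GLCusp.QSum

/-!
# Invariant subspaces: `∑_W phi (g | W) = lift g`
-/

set_option autoImplicit false

namespace CfsgLib.GLCusp

open Polynomial Module
open scoped Classical

attribute [local instance] Fintype.ofFinite

variable {F : Type*} [Field F] [Finite F]

omit [Finite F] in
theorem natCard_adjoinRoot {f : F[X]} (hm : f.Monic) :
    Nat.card (AdjoinRoot f) = Nat.card F ^ f.natDegree := by
  have := hm.finite_adjoinRoot
  rw [Module.natCard_eq_pow_finrank (K := F) (V := AdjoinRoot f)]
  congr 1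
  rw [(AdjoinRoot.powerBasis' hm).finrank]
  rfl

section

variable {V : Type*} [AddCommGroup V] [Module F V] [FiniteDimensional F V]

/-- A module killed by the irreducible `f` is a space over the residue field. -/
theorem sum_inv_killed [Finite V] (g : Module.End F V) {f : F[X]} (hf : Irreducible f)
    (hm : f.Monic) (hg : aeval g f = 0) (k : ℕ) (hk : finrank F V = f.natDegree * k) (G : ℕ → ℂ) :
    ∑ U : Submodule F V, (if Inv g U then G (finrank F U) else 0) =
      qS ((Nat.card F : ℂ) ^ f.natDegree) k (fun u => G (f.natDegree * u)) := by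
  have := Fact.mk hf
  have := hm.finite_adjoinRoot
  have : Finite (AdjoinRoot f) := Module.finite_of_finite F
  let φ : AdjoinRoot f →ₐ[F] Module.End F V :=
    Ideal.Quotient.liftₐ (Ideal.span {f}) (aeval g) fun a ha => by
      obtain ⟨c, rfl⟩ := Ideal.mem_span_singleton.mp ha
      rw [map_mul, hg, zero_mul]
  have hφ : ∀ p : F[X], φ (AdjoinRoot.mk f p) = aeval g p := fun p => rfl
  let _inst : Module (AdjoinRoot f) V := Module.compHom V φ.toRingHom
  have hs : ∀ (c : AdjoinRoot f) (v : V), c • v = φ c v := fun _ _ => rfl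
  have hroot : ∀ v : V, AdjoinRoot.root f • v = g v := fun v => by
    rw [hs, show AdjoinRoot.root f = AdjoinRoot.mk f X from rfl, hφ, aeval_X]
  have halg : ∀ (c : F) (v : V), algebraMap F (AdjoinRoot f) c • v = c • v := fun c v => by
    rw [hs, AlgHom.commutes, Module.algebraMap_end_apply]
  let toF : Submodule (AdjoinRoot f) V → Submodule F V := fun U =>
    { carrier := U
      add_mem' := U.add_mem
      zero_mem' := U.zero_mem
      smul_mem' := fun c v hv => by rw [← halg]; exact U.smul_mem _ hv }
  have hcard : ∀ U : Submodule (AdjoinRoot f) V,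
      finrank F (toF U) = f.natDegree * finrank (AdjoinRoot f) U := by
    intro U
    apply Nat.pow_right_injective (Finite.one_lt_card (α := F))
    show Nat.card F ^ _ = Nat.card F ^ _
    rw [pow_mul, ← natCard_adjoinRoot hm, ← Module.natCard_eq_pow_finrank,
      ← Module.natCard_eq_pow_finrank]
    rfl
  have hdim : finrank (AdjoinRoot f) V = k := by
    have h1 := hcard ⊤
    rw [show toF ⊤ = ⊤ from rfl, finrank_top, finrank_top, hk] at h1
    exact (Nat.eq_of_mul_eq_mul_left hf.natDegree_pos h1).symm
  have hmain := sum_submodule (K := AdjoinRoot f) V (fun u => G (f.natDegree * u))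
  rw [natCard_adjoinRoot hm, hdim, Nat.cast_pow] at hmain
  rw [← hmain]
  symm
  refine Fintype.sum_of_injective toF (fun a b h => SetLike.coe_injective
    (show (a : Set V) = b from congrArg (fun U : Submodule F V => (U : Set V)) h)) _ _
    (fun U hU => ?_) fun U => ?_
  · rw [if_neg]
    intro hinv
    refine hU ⟨{ carrier := U, add_mem' := U.add_mem, zero_mem' := U.zero_mem,
                 smul_mem' := ?_ }, rfl⟩
    intro c v hv
    obtain ⟨p, rfl⟩ := AdjoinRoot.mk_surjective c
    rw [hs, hφ]
    exact inv_aeval hinv p v hv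
  · rw [if_pos, hcard]
    intro v hv
    rw [← hroot]
    exact U.smul_mem _ hv

omit [Finite F] in
theorem finrank_map_mkQ {A U : Submodule F V} (h : A ≤ U) :
    finrank F (U.map A.mkQ) + finrank F A = finrank F U := by
  rw [← LinearMap.finrank_range_add_finrank_ker (A.mkQ.domRestrict U),
    LinearMap.range_domRestrict, LinearMap.ker_domRestrict, Submodule.ker_mkQ,
    (Submodule.comapSubtypeEquivOfLe h).finrank_eq]

/-- The invariant subspaces of an interval killed by `f`. -/
theorem sum_interval [Finite V] (g : Module.End F V) {f : F[X]} (hf : Irreducible f) (hm : f.Monic)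
    {A B : Submodule F V} (hAB : A ≤ B) (hA : Inv g A) (hB : Inv g B)
    (hfB : ∀ x ∈ B, aeval g f x ∈ A) (k : ℕ) (hk : finrank F B = finrank F A + f.natDegree * k)
    (G : ℕ → ℂ) :
    ∑ U : Submodule F V, (if Inv g U ∧ A ≤ U ∧ U ≤ B then G (finrank F U) else 0) =
      qS ((Nat.card F : ℂ) ^ f.natDegree) k (fun u => G (finrank F A + f.natDegree * u)) := by
  set gb := A.mapQ A g hA with hgb
  have hgbx : ∀ x, A.mkQ (g x) = gb (A.mkQ x) := fun x => rfl
  set Bb := B.map A.mkQ with hBb
  have hinvb : Inv gb Bb := by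
    rintro _ ⟨x, hx, rfl⟩
    exact ⟨g x, hB x hx, rfl⟩
  set h := gb.restrict hinvb
  have hh : aeval h f = 0 := by
    ext ⟨y, hy⟩
    obtain ⟨x, hx, rfl⟩ := hy
    rw [restrict_aeval hinvb, LinearMap.zero_apply, Submodule.coe_zero]
    rw [← semiconj_aeval A.mkQ hgbx f x, Submodule.mkQ_apply, Submodule.Quotient.mk_eq_zero]
    exact hfB x hx
  have hdim : finrank F Bb = f.natDegree * k := by
    have := finrank_map_mkQ hAB
    rw [← hBb] at this
    omega
  rw [← sum_inv_killed h hf hm hh k hdim (fun x => G (finrank F A + x))]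
  symm
  let e : Submodule F Bb → Submodule F V := fun U => (U.map Bb.subtype).comap A.mkQ
  have hinv : ∀ U : Submodule F Bb, Inv h U ↔ Inv g (e U) := by
    intro U
    constructor
    · intro hU x hx
      obtain ⟨y, hy, he⟩ := hx
      refine ⟨h y, hU y hy, ?_⟩
      rw [hgbx, ← he]
      rfl
    · intro hU y hy
      obtain ⟨x, hx⟩ := A.mkQ_surjective (y : V ⧸ A)
      obtain ⟨z, hz, he⟩ := hU x ⟨y, hy, hx.symm⟩
      have : h y = z := Subtype.ext (by
        show gb (y : V ⧸ A) = z
        rw [← hx, ← hgbx]; exact he.symm)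
      rwa [this]
  have hlow : ∀ U, A ≤ e U := fun U x hx => by
    refine ⟨0, U.zero_mem, ?_⟩
    rw [map_zero]
    exact ((Submodule.Quotient.mk_eq_zero A).mpr hx).symm
  have hmap : ∀ U, (e U).map A.mkQ = U.map Bb.subtype := fun U =>
    Submodule.map_comap_eq_self (by rw [Submodule.range_mkQ]; exact le_top)
  refine Fintype.sum_of_injective e (fun a b hab => ?_) _ _ (fun U hU => ?_) fun U => ?_
  · have := congrArg (Submodule.map A.mkQ) hab
    rw [hmap, hmap] at this
    exact Submodule.map_injective_of_injective Bb.injective_subtype this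
  · rw [if_neg]
    rintro ⟨-, h1, h2⟩
    refine hU ⟨(U.map A.mkQ).comap Bb.subtype, ?_⟩
    show Submodule.comap A.mkQ _ = U
    rw [Submodule.map_comap_eq_self (by rw [Submodule.range_subtype]; exact Submodule.map_mono h2),
      Submodule.comap_map_mkQ, sup_eq_right.mpr h1]
  · have h3 : e U ≤ B := by
      rintro x ⟨y, -, he⟩
      have hy := y.2
      obtain ⟨b, hb, hbe⟩ := hy
      have : x - b ∈ A := (Submodule.Quotient.eq A).mp (he.symm.trans hbe.symm)
      simpa using B.add_mem (hAB this) hb
    have hd : finrank F (e U) = finrank F A + finrank F U := by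
      rw [← finrank_map_mkQ (hlow U), hmap,
        (Submodule.equivMapOfInjective _ Bb.injective_subtype U).finrank_eq, add_comm]
    by_cases hU : Inv h U
    · rw [if_pos hU, if_pos ⟨(hinv U).mp hU, hlow U, h3⟩, hd]
    · rw [if_neg hU, if_neg fun hc => hU ((hinv U).mpr hc.1)]

end

variable {L : Type*} [Field L] [Algebra F L] (θ : L →*₀ ℂ)

section Primary

variable {V : Type*} [AddCommGroup V] [Module F V] [FiniteDimensional F V] [Finite V]

omit [Finite F] [FiniteDimensional F V] in
theorem inv_map_aeval {g : Module.End F V} {W : Submodule F V} (hW : Inv g W) (p : F[X]) :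
    Inv g (W.map (aeval g p)) := by
  rintro _ ⟨x, hx, rfl⟩
  exact ⟨g x, hW x hx, (semiconj_aeval g (fun _ => rfl) p x).symm⟩

omit [Finite F] [FiniteDimensional F V] in
theorem inv_comap_aeval {g : Module.End F V} {W : Submodule F V} (hW : Inv g W) (p : F[X]) :
    Inv g (W.comap (aeval g p)) := fun x hx => by
  rw [Submodule.mem_comap, ← semiconj_aeval g (fun _ => rfl) p x]
  exact hW _ hx

theorem sum_phiW_primary (g : Module.End F V) {f : F[X]} (hf : Irreducible f) (hm : f.Monic)
    {m : ℕ} (hg : g.charpoly = f ^ m) : ∑ W : Submodule F V, phiW θ g W = lift θ g := by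
  set d := f.natDegree with hd
  set Q : ℂ := (Nat.card F : ℂ) ^ d with hQdef
  set t := aeval g f with ht
  have hdpos : 0 < d := hf.natDegree_pos
  have hnil : aeval g (f ^ m) = 0 := hg ▸ g.aeval_self_charpoly
  have hlen : ∀ W : Submodule F V, Inv g W → ∃ l, (finrank F W = d * l) ∧ (finrank F W / d = l) ∧
      ∀ hW : Inv g W, (g.restrict hW).charpoly = f ^ l := by
    intro W hW
    obtain ⟨l, h1, h2⟩ := charpoly_eq_pow (g := g.restrict hW) hf hm m (by
      ext x
      rw [restrict_aeval hW, hnil]; rfl)
    refine ⟨l, by rw [mul_comm]; exact h2.symm, ?_, fun _ => h1⟩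
    rw [← h2, Nat.mul_div_cancel _ hdpos]
  have hstab : ∀ W : Submodule F V, (∀ x, t x ∈ W → x ∈ W) → W = ⊤ := by
    intro W hW
    rw [eq_top_iff]
    rintro x -
    have key : ∀ (j : ℕ) (y : V), (t ^ j) y ∈ W → y ∈ W := by
      intro j
      induction j with
      | zero => intro y hy; simpa using hy
      | succ j ih =>
        intro y hy
        rw [pow_succ', Module.End.mul_apply] at hy
        exact ih y (hW _ hy)
    refine key m x ?_
    rw [ht, ← map_pow, hnil]
    exact W.zero_mem
  have hstab' : ∀ W : Submodule F V, W ≤ W.map t → W = ⊥ := by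
    intro W hW
    have key : ∀ j : ℕ, W ≤ W.map (t ^ j) := by
      intro j
      induction j with
      | zero => rw [pow_zero, Module.End.one_eq_id, Submodule.map_id]
      | succ j ih =>
        rw [pow_succ', Module.End.mul_eq_comp, Submodule.map_comp]
        exact hW.trans (Submodule.map_mono ih)
    have := key m
    rw [ht, ← map_pow, hnil, Submodule.map_zero] at this
    exact le_bot_iff.mp this
  have hone : ∀ W : Submodule F V, phiW θ g W = rootSum θ f * ∑ U : Submodule F V,
      (if Inv g W ∧ Inv g U ∧ W.map t ≤ U ∧ U ≤ W then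
        ((finrank F U / d : ℕ) : ℂ) * mob Q (finrank F W / d - finrank F U / d) else 0) := by
    intro W
    by_cases hW : Inv g W
    swap
    · rw [phiW_eq_zero θ hW]; simp [hW]
    obtain ⟨l, hl, hld, hlc⟩ := hlen W hW
    have hA : Inv g (W.map t) := inv_map_aeval hW f
    obtain ⟨a, ha, had, -⟩ := hlen _ hA
    have hle : W.map t ≤ W := by
      rintro _ ⟨x, hx, rfl⟩
      exact inv_aeval hW f x hx
    have hal : a ≤ l := by
      have := Submodule.finrank_mono hle
      rw [ha, hl] at this
      exact Nat.le_of_mul_le_mul_left this hdpos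
    obtain ⟨k, rfl⟩ := Nat.exists_eq_add_of_le hal
    have hsum := sum_interval g hf hm hle hA hW (fun x hx => Submodule.mem_map_of_mem hx) k
      (by rw [hl, ha, mul_add]) (fun x => ((x / d : ℕ) : ℂ) * mob Q (a + k - x / d))
    rw [qS_congr _ k (G := fun u => ((a + u : ℕ) : ℂ) * mob Q (k - u)) (fun u _ => by
      rw [ha, ← mul_add, Nat.mul_div_cancel_left _ hdpos, Nat.add_sub_add_left]), qS_length] at hsum
    rw [Fintype.sum_congr _ (fun U : Submodule F V => if Inv g U ∧ W.map t ≤ U ∧ U ≤ W then ((finrank F U / d : ℕ) : ℂ) * mob Q (finrank F W / d - finrank F U / d) else 0) fun U => if_congr ⟨fun h => h.2, fun h => ⟨hW, h⟩⟩ rfl rfl]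
    rw [hld, hsum]
    have hzero : ((a + k : ℕ) : ℂ) * (if k = 0 then 1 else 0) = 0 := by
      split_ifs with hk
      · have : W = ⊥ := hstab' W (by
          rw [Submodule.eq_of_le_of_finrank_eq hle (by rw [ha, hl, hk, add_zero])])
        rw [this, finrank_bot] at hl
        have h0 : a + k = 0 := (mul_eq_zero.mp hl.symm).resolve_left hdpos.ne'
        simp [h0]
      · rw [mul_zero]
    rw [hzero, zero_add]
    rcases Nat.eq_zero_or_pos (a + k) with h0 | h0
    · have hk : k = 0 := by omega
      rw [phiW_eq θ hW, phi_of_finrank_zero θ _ (by rw [hl, h0, mul_zero]), hk]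
      simp [hQ]
    rw [phiW_eq θ hW, phi_eq θ ⟨hm, hf, a + k, h0, hlc hW⟩]
    congr 2
    have hr : finrank F (LinearMap.range (aeval (g.restrict hW) f)) = finrank F (W.map t) := by
      refine (Submodule.equivMapOfInjective _ W.injective_subtype
        (LinearMap.range (aeval (g.restrict hW) f))).finrank_eq.trans ?_
      refine congrArg (fun U : Submodule F V => finrank F U) ?_
      ext y
      constructor
      · rintro ⟨_, ⟨x, rfl⟩, rfl⟩
        exact ⟨x, x.2, (restrict_aeval hW f x).symm⟩
      · rintro ⟨x, hx, rfl⟩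
        exact ⟨_, ⟨⟨x, hx⟩, rfl⟩, restrict_aeval hW f ⟨x, hx⟩⟩
    rw [cokerLen, hr, hl, ha, ← hd, ← Nat.mul_sub, Nat.mul_div_cancel_left _ hdpos,
      Nat.add_sub_cancel_left]
  simp only [hone]
  rw [← Finset.mul_sum, Finset.sum_comm, lift, hg, rootSum_pow, mul_comm _ (rootSum θ f)]
  congr 1
  have hinner : ∀ U : Submodule F V, ∑ W : Submodule F V,
      (if Inv g W ∧ Inv g U ∧ W.map t ≤ U ∧ U ≤ W then
        ((finrank F U / d : ℕ) : ℂ) * mob Q (finrank F W / d - finrank F U / d) else 0) =
      if U = ⊤ then (m : ℂ) else 0 := by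
    intro U
    by_cases hU : Inv g U
    swap
    · rw [if_neg fun h : U = ⊤ => hU (h ▸ fun x _ => Submodule.mem_top)]
      simp [hU]
    obtain ⟨a, ha, had, -⟩ := hlen U hU
    have hB : Inv g (U.comap t) := inv_comap_aeval hU f
    obtain ⟨b, hb, hbd, -⟩ := hlen _ hB
    have hle : U ≤ U.comap t := fun x hx => inv_aeval hU f x hx
    have hab : a ≤ b := by
      have := Submodule.finrank_mono hle
      rw [ha, hb] at this
      exact Nat.le_of_mul_le_mul_left this hdpos
    obtain ⟨k, rfl⟩ := Nat.exists_eq_add_of_le hab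
    have hsum := sum_interval g hf hm hle hU hB (fun x hx => hx) k
      (by rw [hb, ha, mul_add]) (fun x => (a : ℂ) * mob Q (x / d - a))
    rw [qS_congr _ k (G := fun u => (a : ℂ) * mob Q u) (fun u _ => by
      rw [ha, ← mul_add, Nat.mul_div_cancel_left _ hdpos, Nat.add_sub_cancel_left]), qS_mul,
      qS_mob] at hsum
    rw [had]
    refine (Fintype.sum_congr _ _ fun W => ?_).trans (hsum.trans ?_)
    · refine if_congr ⟨?_, ?_⟩ rfl rfl
      · rintro ⟨h1, -, h3, h4⟩
        exact ⟨h1, h4, Submodule.map_le_iff_le_comap.mp h3⟩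
      · rintro ⟨h1, h2, h3⟩
        exact ⟨h1, hU, Submodule.map_le_iff_le_comap.mpr h3, h2⟩
    · by_cases hk : k = 0
      · have htop : U = ⊤ := hstab U fun x hx => by
          have : U = U.comap t := Submodule.eq_of_le_of_finrank_eq hle (by rw [ha, hb, hk, add_zero])
          rw [this]; exact hx
        rw [if_pos hk, if_pos htop, mul_one]
        rw [htop, finrank_top] at ha
        have hV := g.charpoly_natDegree
        rw [hg, hm.natDegree_pow, ha, ← hd, mul_comm] at hV
        rw [Nat.eq_of_mul_eq_mul_left hdpos hV]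
      · rw [if_neg hk, mul_zero, if_neg]
        intro htop
        rw [htop, Submodule.comap_top] at hb
        rw [htop] at ha
        rw [ha] at hb
        have := Nat.eq_of_mul_eq_mul_left hdpos hb
        omega
  simp only [hinner]
  simp

end Primary

end CfsgLib.GLCusp
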