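import Cfsg.Agent.Lib.GLCusp.BrauerLift
import Cfsg.Agent.Lib.GLCusp.Identity
import Cfsg.Agent.Lib.Char.Counting

/-!
# The primary class function is a generalized character
-/

set_option autoImplicit false

universe u v w

namespace CfsgLib.GLCusp

open Polynomial Module Cfsg CfsgLib.Char
open scoped Classical

attribute [local instance] Fintype.ofFinite

/-- Sums over fixed points of a family of generalized characters of the stabilisers. -/
theorem isGeneralized_fixed_sum {G : Type u} [Group G] [Finite G] {X : Type*} [MulAction G X]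
    [Finite X] (f : X → G → ℂ)
    (heq : ∀ (x : X) (y h : G), h • x = x → f (y • x) (y * h * y⁻¹) = f x h)
    (hgen : ∀ x : X, IsGeneralizedCharacter (MulAction.stabilizer G x) (fun h => f x h)) :
    IsGeneralizedCharacter G (fun g => ∑ x : X, if g • x = x then f x g else 0) := by
  let π : X → MulAction.orbitRel.Quotient G X := Quotient.mk _
  have key : (fun g => ∑ x : X, if g • x = x then f x g else 0) =
      ∑ o : MulAction.orbitRel.Quotient G X,
        indFun (MulAction.stabilizer G o.out) (fun h => f o.out h) := by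
    funext g
    rw [Finset.sum_apply, ← Finset.sum_fiberwise Finset.univ π]
    refine Finset.sum_congr rfl fun o _ => ?_
    set x₀ := o.out
    set H := MulAction.stabilizer G x₀
    have hval : ∀ y : G, extendByZero H (fun h => f x₀ h) (y⁻¹ * g * y) =
        if g • (y • x₀) = y • x₀ then f (y • x₀) g else 0 := by
      intro y
      have hiff : y⁻¹ * g * y ∈ H ↔ g • (y • x₀) = y • x₀ := by
        rw [MulAction.mem_stabilizer_iff, mul_smul, mul_smul, inv_smul_eq_iff]
      split_ifs with h
      · rw [extendByZero_mem _ _ (hiff.mpr h)]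
        have := heq x₀ y (y⁻¹ * g * y) (hiff.mpr h)
        rw [show y * (y⁻¹ * g * y) * y⁻¹ = g by group] at this
        exact this.symm
      · exact extendByZero_notMem _ _ fun hc => h (hiff.mp hc)
    have hmem : ∀ x : X, π x = o ↔ x ∈ MulAction.orbit G x₀ := fun x => by
      rw [← MulAction.orbitRel_apply]
      conv_lhs => rw [← Quotient.out_eq o]
      exact Quotient.eq
    simp only [indFun, hval]
    rw [← Finset.sum_fiberwise_of_maps_to (s := (Finset.univ : Finset G))
      (t := Finset.univ.filter fun x => π x = o) (g := fun y : G => y • x₀)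
      (fun y _ => Finset.mem_filter.mpr ⟨Finset.mem_univ _, (hmem _).mpr ⟨y, rfl⟩⟩), Finset.mul_sum]
    refine Finset.sum_congr rfl fun z hz => ?_
    obtain ⟨a, rfl⟩ := (hmem z).mp (Finset.mem_filter.mp hz).2
    rw [Finset.sum_congr rfl fun y hy => by rw [(Finset.mem_filter.mp hy).2], Finset.sum_const,
      nsmul_eq_mul]
    have hc : (Finset.univ.filter fun y : G => y • x₀ = a • x₀).card = Nat.card H := by
      rw [← Fintype.card_subtype, Fintype.card_eq_nat_card]
      refine Nat.card_congr (Equiv.subtypeEquiv (Equiv.mulLeft a⁻¹) fun y => ?_)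
      rw [MulAction.mem_stabilizer_iff, Equiv.coe_mulLeft, mul_smul, inv_smul_eq_iff]
    rw [hc, inv_mul_cancel_left₀ (Nat.cast_ne_zero.mpr Nat.card_pos.ne')]
  rw [key]
  exact isGeneralized_sum _ _ fun o _ => isGeneralized_indFun _ (hgen o.out)

variable {F : Type*} [Field F] [Finite F] {L : Type w} [Field L] [Algebra F L]

theorem isGeneralized_phi_aux (θ : L →*₀ ℂ) (hθ : Function.Injective θ) {n : ℕ}
    (hsp : ∀ p : F[X], p.Monic → p.natDegree ≤ n → (p.map (algebraMap F L)).Splits) :
    ∀ (N : ℕ) (V : Type v) [AddCommGroup V] [Module F V] [FiniteDimensional F V],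
      finrank F V = N → N ≤ n → ∀ (G : Type u) [Group G] [Finite G] (ρ : G →* Module.End F V),
        IsGeneralizedCharacter G (fun g => phi θ (ρ g)) := by
  intro N
  induction N using Nat.strong_induction_on with
  | _ N ih => ?_
  intro V _ _ _ hN hNn G _ _ ρ
  have : Finite V := Module.finite_of_finite F
  let e : G → V ≃ₗ[F] V := fun y => LinearEquiv.ofLinearMap (ρ y) (ρ y⁻¹)
    (by rw [← Module.End.mul_eq_comp, ← map_mul, mul_inv_cancel, map_one]; rfl)
    (by rw [← Module.End.mul_eq_comp, ← map_mul, inv_mul_cancel, map_one]; rfl)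
  have hmul : ∀ a b : G, ∀ x, ρ (a * b) x = ρ a (ρ b x) := fun a b x => by rw [map_mul]; rfl
  let X := {W : Submodule F V // W ≠ ⊤}
  let _act : MulAction G X :=
    { smul := fun y W => ⟨W.1.map (e y : V →ₗ[F] V), fun h => W.2 (by
        rw [← Submodule.map_injective_of_injective (f := (e y : V →ₗ[F] V)) (e y).injective
          (show Submodule.map (e y : V →ₗ[F] V) ⊤ = Submodule.map (e y : V →ₗ[F] V) W.1 by
            rw [h, Submodule.map_top, LinearEquiv.range])])⟩
      one_smul := fun W => Subtype.ext (by
        show W.1.map (ρ (1 : G)) = W.1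
        rw [map_one, Module.End.one_eq_id, Submodule.map_id])
      mul_smul := fun a b W => Subtype.ext (by
        show W.1.map (ρ (a * b)) = (W.1.map (ρ b)).map (ρ a)
        rw [map_mul, Module.End.mul_eq_comp, Submodule.map_comp]) }
  have hsmul : ∀ (y : G) (W : X), (y • W).1 = W.1.map (ρ y) := fun _ _ => rfl
  have hfix : ∀ (g : G) (W : X), g • W = W ↔ Inv (ρ g) W.1 := by
    intro g W
    constructor
    · intro h x hx
      have := hsmul g W
      rw [h] at this
      rw [this]
      exact Submodule.mem_map_of_mem hx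
    · intro h
      refine Subtype.ext (Submodule.eq_of_le_of_finrank_eq ?_ (LinearEquiv.finrank_map_eq (e g) W.1))
      rintro _ ⟨x, hx, rfl⟩
      exact h x hx
  let f : X → G → ℂ := fun W g => phiW θ (ρ g) W.1
  have key : (fun g => phi θ (ρ g)) =
      (fun g => lift θ (ρ g)) - fun g => ∑ W : X, if g • W = W then f W g else 0 := by
    funext g
    rw [Pi.sub_apply, eq_sub_iff_add_eq, ← sum_phiW θ (ρ g),
      ← Finset.add_sum_erase Finset.univ _ (Finset.mem_univ (⊤ : Submodule F V)), phiW_top]
    congr 1
    rw [Finset.sum_subtype (p := fun W : Submodule F V => W ≠ ⊤) (Finset.univ.erase ⊤)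
      (fun W => by simp)]
    refine Fintype.sum_congr _ _ fun W => ?_
    split_ifs with h
    · rfl
    · exact (phiW_eq_zero θ fun hi => h ((hfix g W).mpr hi)).symm
  rw [key]
  refine isGeneralized_sub
    (isGeneralized_lift θ hθ ρ fun p hp hd => hsp p hp (hd.trans (hN ▸ hNn))) ?_
  have h₁ : ∀ (W : X) (y h : G), h • W = W → f (y • W) (y * h * y⁻¹) = f W h := fun W y h _ => by
    show phiW θ (ρ (y * h * y⁻¹)) (W.1.map (e y : V →ₗ[F] V)) = phiW θ (ρ h) W.1
    refine phiW_map_injective θ _ (e y).injective (fun x => ?_) _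
    show ρ y (ρ h x) = ρ (y * h * y⁻¹) (ρ y x)
    rw [← hmul, ← hmul, inv_mul_cancel_right]
  have h₂ : ∀ W : X, IsGeneralizedCharacter (MulAction.stabilizer G W) (fun h => f W h) := by
    intro W
    have hinv : ∀ h : MulAction.stabilizer G W, Inv (ρ h) W.1 :=
      fun h => (hfix h W).mp h.2
    let σ : MulAction.stabilizer G W →* Module.End F W.1 :=
      { toFun := fun h => (ρ h).restrict (hinv h)
        map_one' := LinearMap.ext fun x => Subtype.ext (by simp)
        map_mul' := fun a b => LinearMap.ext fun x => Subtype.ext (by simp) }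
    have hlt : finrank F W.1 < N := hN ▸ Submodule.finrank_lt W.2
    have := ih _ hlt W.1 rfl (hlt.le.trans hNn) (MulAction.stabilizer G W) σ
    convert this using 1
    funext h
    exact phiW_eq θ (hinv h)
  convert isGeneralized_fixed_sum f h₁ h₂ using 1
  funext g
  refine Finset.sum_congr (by ext; simp) fun W _ => ?_
  congr 1

/-- The primary class function is a generalized character. -/
theorem isGeneralized_phi (θ : L →*₀ ℂ) (hθ : Function.Injective θ) {V : Type v} [AddCommGroup V]
    [Module F V] [FiniteDimensional F V]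
    (hsp : ∀ p : F[X], p.Monic → p.natDegree ≤ finrank F V → (p.map (algebraMap F L)).Splits)
    {G : Type u} [Group G] [Finite G] (ρ : G →* Module.End F V) :
    IsGeneralizedCharacter G (fun g => phi θ (ρ g)) :=
  isGeneralized_phi_aux θ hθ hsp _ V rfl le_rfl G ρ

end CfsgLib.GLCusp
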