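import Cfsg.Agent.Lib.GLCusp.Norm
import Cfsg.Agent.Lib.GLCusp.PhiGen

/-!
# Cuspidal characters of `GL n`
-/

set_option autoImplicit false

universe u

namespace CfsgLib.GLCusp

open Polynomial Module Cfsg CfsgLib.Char
open scoped Classical ComplexConjugate MatrixGroups

attribute [local instance] Fintype.ofFinite

variable {F : Type u} [Field F] [Finite F] {L : Type} [Field L] [Algebra F L]

omit [Finite F] [Field L] [Algebra F L] in
/-- The natural action of `GL n`. -/
noncomputable def natRep (n : ℕ) : GL (Fin n) F →* Module.End F (Fin n → F) :=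
  (Matrix.toLinAlgEquiv' : Matrix (Fin n) (Fin n) F ≃ₐ[F] _).toRingEquiv.toRingHom.toMonoidHom.comp
    (Units.coeHom (Matrix (Fin n) (Fin n) F))

omit [Finite F] in
theorem natRep_injective {n : ℕ} : Function.Injective (natRep (F := F) n) := fun a b h =>
  Units.ext ((Matrix.toLinAlgEquiv' : Matrix (Fin n) (Fin n) F ≃ₐ[F] _).injective h)

omit [Finite F] in
theorem exists_natRep {n : ℕ} {g : Module.End F (Fin n → F)} (hg : IsUnit g) :
    ∃ a, natRep n a = g := by
  obtain ⟨u, rfl⟩ := hg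
  exact ⟨Units.mapEquiv (Matrix.toLinAlgEquiv' : Matrix (Fin n) (Fin n) F ≃ₐ[F] _).symm.toMulEquiv u,
    (Matrix.toLinAlgEquiv' : Matrix (Fin n) (Fin n) F ≃ₐ[F] _).apply_symm_apply _⟩

omit [Finite F] in
theorem card_GL_eq {n : ℕ} :
    Nat.card ((Fin n → F) ≃ₗ[F] (Fin n → F)) = Nat.card (GL (Fin n) F) :=
  Nat.card_congr ((LinearMap.GeneralLinearGroup.generalLinearEquiv F (Fin n → F)).toEquiv.symm.trans
    (Matrix.GeneralLinearGroup.toLin (n := Fin n) (R := F)).toEquiv.symm)

/-- The candidate class function. -/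
noncomputable def cuspFun (θ : L →*₀ ℂ) (n : ℕ) : GL (Fin n) F → ℂ := fun g => phi θ (natRep n g)

theorem classInner_cuspFun [Finite L] (θ θ' : L →*₀ ℂ) {n : ℕ} (hn : 0 < n)
    (hsp : ∀ p : F[X], p.Monic → p.natDegree ≤ n → (p.map (algebraMap F L)).Splits) :
    classInner (cuspFun (F := F) θ n) (cuspFun θ' n) * ((Nat.card F : ℂ) ^ n - 1) =
      ∑ x ∈ Finset.univ.filter (fun x : L => x ≠ 0 ∧ x ^ (Nat.card F ^ n) = x),
          θ x * conj (orbitSum θ' (Nat.card F) n x) := by
  have hfin : finrank F (Fin n → F) = n := Module.finrank_fin_fun F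
  have h := sum_phi_lift (V := Fin n → F) θ θ' (by rw [hfin]; exact hsp) (by rw [hfin]; exact hn)
  rw [← sum_phi_phi, hfin, card_GL_eq] at h
  have hG : ∑ g : GL (Fin n) F, cuspFun θ n g * conj (cuspFun θ' n g) =
      ∑ g : Module.End F (Fin n → F), phi θ g * conj (phi θ' g) := by
    refine Fintype.sum_of_injective (natRep n) natRep_injective _ _ (fun g hg => ?_) fun _ => rfl
    rw [phi_eq_zero_of_not_isUnit θ fun hu => hg (exists_natRep hu), zero_mul]
  rw [classInner, hG, mul_assoc, mul_comm (∑ g : Module.End F (Fin n → F), _), h,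
    inv_mul_cancel_left₀ (Nat.cast_ne_zero.mpr Nat.card_pos.ne')]

omit [Finite F] in
theorem cuspFun_one (θ : L →*₀ ℂ) {n : ℕ} (hn : 0 < n) :
    cuspFun (F := F) θ n 1 = ∏ i ∈ Finset.Ico 1 n, (1 - (Nat.card F : ℂ) ^ i) := by
  have hfin : finrank F (Fin n → F) = n := Module.finrank_fin_fun F
  have hP : IsPrimary (1 : Module.End F (Fin n → F)) (X - C 1) :=
    ⟨monic_X_sub_C 1, irreducible_X_sub_C 1, n, hn, by rw [LinearMap.charpoly_one, hfin, map_one]⟩
  rw [cuspFun, map_one, phi_eq θ hP, rootSum, aroots_X_sub_C, Multiset.map_singleton,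
    Multiset.sum_singleton, map_one, map_one, one_mul, natDegree_X_sub_C, pow_one, cokerLen, natDegree_X_sub_C,
    Nat.div_one, map_sub, aeval_X, aeval_C, map_one, sub_self, LinearMap.range_zero, finrank_bot,
    Nat.sub_zero, hfin]
  obtain ⟨k, rfl⟩ := Nat.exists_eq_add_of_le hn
  rw [Finset.prod_Ico_eq_prod_range, show 1 + k - 1 = k by omega, show Nat.succ 0 + k = k + 1 by omega]
  exact Finset.prod_congr rfl fun i _ => by rw [add_comm i 1]

theorem radical_sum (θ : L →*₀ ℂ) {n m : ℕ} (hm : 0 < m) (hmn : m < n) :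
    ∑ g : GL (Fin n) F,
      (if (∀ i j : Fin n, ¬ (i.val < m ∧ m ≤ j.val) →
          (g : Matrix (Fin n) (Fin n) F) i j = (1 : Matrix (Fin n) (Fin n) F) i j)
        then cuspFun θ n g else 0) = 0 := by
  let W : Submodule F (Fin n → F) :=
    { carrier := {v | ∀ i : Fin n, m ≤ i.val → v i = 0}
      add_mem' := fun ha hb i hi => by rw [Pi.add_apply, ha i hi, hb i hi, add_zero]
      zero_mem' := fun _ _ => rfl
      smul_mem' := fun c v hv i hi => by rw [Pi.smul_apply, hv i hi, smul_zero] }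
  have hW0 : W ≠ ⊥ := fun h => by
    have h1 : (Pi.single (⟨0, hm.trans hmn⟩ : Fin n) (1 : F)) ∈ W := fun i hi =>
      Pi.single_eq_of_ne (fun e => by rw [e] at hi; exact absurd hi (not_le.mpr hm)) _
    rw [h, Submodule.mem_bot, Pi.single_eq_zero_iff] at h1
    exact one_ne_zero h1
  have hW1 : W ≠ ⊤ := fun h => by
    have h1 : (Pi.single (⟨m, hmn⟩ : Fin n) (1 : F)) ∈ W := h ▸ Submodule.mem_top
    exact one_ne_zero ((Pi.single_eq_same (M := fun _ => F) _ _).symm.trans (h1 ⟨m, hmn⟩ le_rfl))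
  have h0 := cusp θ (1 : Module.End F (Fin n → F)) hW0 hW1 (fun x hx => hx)
  let e : Matrix (Fin n) (Fin n) F ≃ₐ[F] Module.End F (Fin n → F) := Matrix.toLinAlgEquiv'
  have hmem : ∀ B : Matrix (Fin n) (Fin n) F,
      e B ∈ rad W ↔ ∀ i j : Fin n, ¬ (i.val < m ∧ m ≤ j.val) → B i j = 0 := by
    intro B
    constructor
    · rintro ⟨h1, h2⟩ i j hij
      have hBe : e B (Pi.single j 1) i = B i j := by simp [e]
      by_cases hi : i.val < m
      · have hj : j.val < m := not_le.mp fun h => hij ⟨hi, h⟩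
        rw [← hBe, h2 _ (fun k hk => Pi.single_eq_of_ne (fun e => by rw [e] at hk; omega) _)]
        rfl
      · rw [← hBe]
        exact h1 _ i (not_lt.mp hi)
    · intro h
      refine ⟨fun x i hi => ?_, fun w hw => funext fun i => ?_⟩
      · simp only [e, Matrix.toLinAlgEquiv'_apply, Matrix.mulVec, dotProduct]
        exact Finset.sum_eq_zero fun j _ => by rw [h i j (fun h' => by omega), zero_mul]
      · simp only [e, Matrix.toLinAlgEquiv'_apply, Matrix.mulVec, dotProduct, Pi.zero_apply]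
        refine Finset.sum_eq_zero fun j _ => ?_
        by_cases hj : m ≤ j.val
        · rw [hw j hj, mul_zero]
        · rw [h i j (fun h' => hj h'.2), zero_mul]
  have hpat : ∀ g : GL (Fin n) F, natRep n g - 1 ∈ rad W ↔ ∀ i j : Fin n, ¬ (i.val < m ∧ m ≤ j.val) →
      (g : Matrix (Fin n) (Fin n) F) i j = (1 : Matrix (Fin n) (Fin n) F) i j := by
    intro g
    rw [show natRep n g - 1 = e ((g : Matrix (Fin n) (Fin n) F) - 1) by rw [map_sub, map_one]; rfl, hmem]
    simp only [Matrix.sub_apply, sub_eq_zero]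
  have hu : ∀ T : rad W, ∃ g : GL (Fin n) F, natRep n g = 1 + (T : Module.End F (Fin n → F)) := by
    intro T
    refine exists_natRep ⟨⟨1 + T.1, 1 - T.1, ?_, ?_⟩, rfl⟩ <;>
    · have hTT : T.1 * T.1 = 0 := LinearMap.ext fun x => T.2.2 _ (T.2.1 x)
      simp [mul_sub, sub_mul, mul_add, add_mul, hTT]
  choose U hU using hu
  refine (Fintype.sum_of_injective U (fun a b h => ?_) _ _ (fun g hg => ?_) fun T => ?_).symm.trans h0
  · have := congrArg (natRep n) h
    rw [hU, hU] at this
    exact Subtype.ext (add_left_cancel this)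
  · rw [if_neg]
    intro hp
    exact hg ⟨⟨_, (hpat g).mpr hp⟩, natRep_injective (by rw [hU]; exact add_sub_cancel _ _)⟩
  · rw [if_pos ((hpat _).mp (by rw [hU, add_sub_cancel_left]; exact T.2)), cuspFun, hU]

/-- A field in which all polynomials of degree at most `n` split. -/
theorem exists_field (n : ℕ) (hn : 0 < n) :
    ∃ (L : Type) (_ : Field L) (_ : Finite L) (_ : Algebra F L),
      (∀ p : F[X], p.Monic → p.natDegree ≤ n → (p.map (algebraMap F L)).Splits) ∧
      (Nat.card F ^ n - 1) ∣ (Nat.card L - 1) := by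
  obtain ⟨p, hp⟩ := CharP.exists F
  have : Fact p.Prime := ⟨CharP.char_is_prime F p⟩
  have : NeZero n.factorial := ⟨n.factorial_ne_zero⟩
  refine ⟨FiniteField.Extension F p n.factorial, inferInstance, inferInstance, inferInstance,
    splits_of_degree_le fun r hr hd => ?_, ?_⟩
  · refine Splits.of_dvd (IsSplittingField.splits (FiniteField.Extension F p n.factorial)
      (X ^ Nat.card F ^ n.factorial - X))
      (map_ne_zero (FiniteField.X_pow_card_pow_sub_X_ne_zero _ n.factorial_ne_zero Finite.one_lt_card))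
      (Polynomial.map_dvd _ ?_)
    exact hr.natDegree_dvd_iff_dvd_X_pow_card_pow_sub_X.mp (Nat.dvd_factorial hr.natDegree_pos hd)
  · rw [FiniteField.natCard_extension]
    exact Nat.pow_sub_one_dvd_pow_sub_one _ (Nat.dvd_factorial hn le_rfl)

theorem pow_eq_pow_imp {q n : ℕ} (hq : 2 ≤ q) {i : ℕ} (hi : i < n)
    (h : (1 : ZMod (q ^ n - 1)) = (q : ZMod (q ^ n - 1)) ^ i) : i = 0 := by
  by_contra h0
  have h1 : ((q ^ i - 1 : ℕ) : ZMod (q ^ n - 1)) = 0 := by
    rw [Nat.cast_sub (Nat.one_le_pow _ _ (by omega)), Nat.cast_pow, ← h, Nat.cast_one, sub_self]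
  rw [ZMod.natCast_eq_zero_iff] at h1
  have h2 : 1 < q ^ i := Nat.one_lt_pow h0 (by omega)
  have h3 : q ^ i < q ^ n := Nat.pow_lt_pow_right (by omega) hi
  have := Nat.le_of_dvd (by omega) h1
  omega

/-- **Existence of many cuspidal characters.** -/
theorem card_cuspidal (n : ℕ) (hn : 2 ≤ n) :
    Nat.totient (Nat.card F ^ n - 1) / n ≤
      Nat.card {χ : Cfsg.IrrCharacter (GL (Fin n) F) //
        (χ : GL (Fin n) F → ℂ) 1 = ∏ i ∈ Finset.Ico 1 n, ((Nat.card F : ℂ) ^ i - 1) ∧
        ∀ m : ℕ, 0 < m → m < n →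
          (∑ g : GL (Fin n) F,
            if (∀ i j : Fin n, ¬ (i.val < m ∧ m ≤ j.val) →
              (g : Matrix (Fin n) (Fin n) F) i j = (1 : Matrix (Fin n) (Fin n) F) i j)
            then (χ : GL (Fin n) F → ℂ) g else 0) = 0} := by
  set q := Nat.card F with hq
  have hq2 : 2 ≤ q := Finite.one_lt_card
  have hn0 : 0 < n := by omega
  set N := q ^ n - 1 with hNdef
  have hN : 0 < N := by
    have : 1 < q ^ n := Nat.one_lt_pow hn0.ne' hq2
    omega
  have : NeZero N := ⟨hN.ne'⟩
  obtain ⟨L, _, _, _, hsp, hdvd⟩ := exists_field (F := F) n hn0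
  obtain ⟨θ, hθ⟩ := exists_injective_char L
  set M := Nat.card L - 1 with hMdef
  have hM : 0 < M := by have := Finite.one_lt_card (α := L); omega
  have : NeZero M := ⟨hM.ne'⟩
  obtain ⟨ζ, hζ⟩ : ∃ ζ : L, IsPrimitiveRoot ζ N := by
    obtain ⟨g, hg⟩ := IsCyclic.exists_generator (α := Lˣ)
    obtain ⟨c, hc⟩ := hdvd
    refine ⟨((g ^ c : Lˣ) : L), ?_⟩
    have hg' : IsPrimitiveRoot g M := by
      rw [IsPrimitiveRoot.iff_orderOf, orderOf_eq_card_of_forall_mem_zpowers hg, Nat.card_units]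
    exact (hg'.pow hM (by rw [hc, mul_comm])).map_of_injective (f := Units.coeHom L) Units.val_injective
  choose J hJ using fun a : (ZMod N)ˣ => ZMod.unitsMap_surjective hdvd a
  let j : (ZMod N)ˣ → ℕ := fun a => ((J a : ZMod M)).val + M
  have hj0 : ∀ a, j a ≠ 0 := fun a => by simp only [j]; omega
  have hjcop : ∀ a, (j a).Coprime M := fun a => by
    simp only [j]
    rw [Nat.coprime_add_self_left]
    exact ZMod.val_coe_unit_coprime (J a)
  have hjcast : ∀ a, ((j a : ℕ) : ZMod N) = (a : ZMod N) := fun a => by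
    have h1 : ((j a : ℕ) : ZMod M) = (J a : ZMod M) := by simp [j]
    rw [← map_natCast (ZMod.castHom hdvd (ZMod N)), h1]
    exact congrArg Units.val (hJ a)
  let Θ : (ZMod N)ˣ → (L →*₀ ℂ) := fun a => (powMonoidWithZeroHom (hj0 a)).comp θ
  have hΘ : ∀ a x, Θ a x = θ x ^ j a := fun a x => rfl
  have hΘinj : ∀ a, Function.Injective (Θ a) := by
    intro a x y h
    rw [hΘ, hΘ] at h
    by_cases hy : y = 0
    · subst hy
      rw [map_zero, zero_pow (hj0 a)] at h
      exact hθ ((eq_zero_of_pow_eq_zero h).trans (map_zero θ).symm)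
    have hθy : θ y ≠ 0 := fun e => hy (hθ (e.trans (map_zero θ).symm))
    have hx : x ≠ 0 := fun e => by
      rw [e, map_zero, zero_pow (hj0 a)] at h
      exact hθy (eq_zero_of_pow_eq_zero h.symm)
    set z := x / y with hz
    have hz1 : θ z ^ j a = 1 := by
      rw [hz, map_div₀, div_pow, h, div_self (pow_ne_zero _ hθy)]
    have hz0 : z ≠ 0 := div_ne_zero hx hy
    have hzM : θ z ^ M = 1 := by
      have := Fintype.ofFinite L
      rw [← map_pow, hMdef, Nat.card_eq_fintype_card, FiniteField.pow_card_sub_one_eq_one z hz0, map_one]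
    have h2 : θ z = 1 := by
      have := pow_gcd_eq_one.mpr (And.intro hz1 hzM)
      rwa [(hjcop a), pow_one] at this
    exact eq_of_div_eq_one (hθ (h2.trans (map_one θ).symm))
  have hinner : ∀ a b, classInner (cuspFun (F := F) (Θ a) n) (cuspFun (Θ b) n) =
      (((Finset.range n).filter fun i => (a : ZMod N) = (b : ZMod N) * (q : ZMod N) ^ i).card : ℂ) := by
    intro a b
    have h1 := classInner_cuspFun (F := F) (Θ a) (Θ b) hn0 hsp
    rw [sum_orbit θ (Θ a) (Θ b) hθ hN hζ (fun x _ => hΘ a x) (fun x _ => hΘ b x)] at h1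
    rw [show ((q ^ n - 1 : ℕ) : ℂ) = (q : ℂ) ^ n - 1 by
      rw [Nat.cast_sub (Nat.one_le_pow _ _ (by omega))]; push_cast; rfl] at h1
    have hne : (q : ℂ) ^ n - 1 ≠ 0 := by
      rw [show (q : ℂ) ^ n - 1 = ((N : ℕ) : ℂ) by
        rw [hNdef, Nat.cast_sub (Nat.one_le_pow _ _ (by omega))]; push_cast; rfl]
      exact Nat.cast_ne_zero.mpr hN.ne'
    rw [mul_comm ((q : ℂ) ^ n - 1)] at h1
    have h2 := mul_right_cancel₀ hne h1
    rw [hjcast, hjcast] at h2
    exact h2
  have hself : ∀ a, classInner (cuspFun (F := F) (Θ a) n) (cuspFun (Θ a) n) = 1 := by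
    intro a
    rw [hinner]
    have : ((Finset.range n).filter fun i => (a : ZMod N) = (a : ZMod N) * (q : ZMod N) ^ i) = {0} := by
      ext i
      rw [Finset.mem_filter, Finset.mem_range, Finset.mem_singleton]
      refine ⟨fun h => pow_eq_pow_imp hq2 h.1 (a.mul_right_inj.mp ((mul_one _).trans h.2)), ?_⟩
      rintro rfl
      exact ⟨hn0, by rw [pow_zero, mul_one]⟩
    rw [this, Finset.card_singleton, Nat.cast_one]
  have hgen : ∀ a, IsGeneralizedCharacter (GL (Fin n) F) (cuspFun (F := F) (Θ a) n) := fun a =>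
    isGeneralized_phi (Θ a) (hΘinj a) (V := Fin n → F)
      (by rw [Module.finrank_fin_fun]; exact hsp) (natRep n)
  choose ε hε χ hχ using fun a => exists_of_norm_one (hgen a) (hself a)
  have hεne : ∀ a, ε a ≠ 0 := fun a => by rcases hε a with h | h <;> rw [h] <;> norm_num
  have hχ' : ∀ a, ∀ g, (χ a : GL (Fin n) F → ℂ) g = (ε a)⁻¹ * cuspFun (Θ a) n g := fun a g => by
    rw [hχ a, Pi.smul_apply, smul_eq_mul, inv_mul_cancel_left₀ (hεne a)]
  have hdeg : ∀ a, (χ a : GL (Fin n) F → ℂ) 1 = ∏ i ∈ Finset.Ico 1 n, ((q : ℂ) ^ i - 1) := by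
    intro a
    obtain ⟨d, -, hd⟩ := exists_nat_degree_irr (χ a).2
    set P : ℕ := ∏ i ∈ Finset.Ico 1 n, (q ^ i - 1) with hP
    have hPc : ∏ i ∈ Finset.Ico 1 n, ((q : ℂ) ^ i - 1) = (P : ℂ) := by
      rw [hP, Nat.cast_prod]
      refine Finset.prod_congr rfl fun i _ => ?_
      rw [Nat.cast_sub (Nat.one_le_pow _ _ (by omega))]
      push_cast; rfl
    have h1 : ∏ i ∈ Finset.Ico 1 n, (1 - (q : ℂ) ^ i) =
        (-1) ^ (Finset.Ico 1 n).card * (P : ℂ) := by
      rw [← hPc, ← Finset.prod_const, ← Finset.prod_mul_distrib]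
      exact Finset.prod_congr rfl fun i _ => by ring
    have h2 := hχ' a 1
    rw [cuspFun_one (Θ a) hn0, h1, hd] at h2
    rw [hd, hPc]
    rcases neg_one_pow_eq_or ℂ (Finset.Ico 1 n).card with h | h <;> rcases hε a with h' | h' <;>
      rw [h, h'] at h2 <;> norm_num at h2 ⊢
    all_goals first
      | exact_mod_cast h2
      | (have : ((d + P : ℕ) : ℂ) = 0 := by push_cast; rw [h2]; ring
         have h3 : d + P = 0 := by exact_mod_cast this
         exact_mod_cast (show d = P by omega))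
  have hU : ∀ a, ∀ m : ℕ, 0 < m → m < n →
      (∑ g : GL (Fin n) F,
        if (∀ i j : Fin n, ¬ (i.val < m ∧ m ≤ j.val) →
          (g : Matrix (Fin n) (Fin n) F) i j = (1 : Matrix (Fin n) (Fin n) F) i j)
        then (χ a : GL (Fin n) F → ℂ) g else 0) = 0 := by
    intro a m hm hmn
    simp only [hχ', ← mul_ite_zero, ← Finset.mul_sum]
    exact mul_eq_zero_of_right _ (radical_sum (Θ a) hm hmn)
  let f : (ZMod N)ˣ → {χ : Cfsg.IrrCharacter (GL (Fin n) F) //
      (χ : GL (Fin n) F → ℂ) 1 = ∏ i ∈ Finset.Ico 1 n, ((q : ℂ) ^ i - 1) ∧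
      ∀ m : ℕ, 0 < m → m < n →
        (∑ g : GL (Fin n) F,
          if (∀ i j : Fin n, ¬ (i.val < m ∧ m ≤ j.val) →
            (g : Matrix (Fin n) (Fin n) F) i j = (1 : Matrix (Fin n) (Fin n) F) i j)
          then (χ : GL (Fin n) F → ℂ) g else 0) = 0} := fun a => ⟨χ a, hdeg a, hU a⟩
  have hfib : ∀ a ∈ (Finset.univ : Finset (ZMod N)ˣ).image f,
      ((Finset.univ : Finset (ZMod N)ˣ).filter fun b => f b = a).card ≤ n := by
    intro c hc
    obtain ⟨b, -, rfl⟩ := Finset.mem_image.mp hc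
    have hsub : (((Finset.univ : Finset (ZMod N)ˣ).filter fun x => f x = f b).image
        (fun x : (ZMod N)ˣ => (x : ZMod N))) ⊆ (Finset.range n).image fun i => (b : ZMod N) * (q : ZMod N) ^ i := by
      intro z hz
      obtain ⟨a, ha, rfl⟩ := Finset.mem_image.mp hz
      have hab : χ a = χ b := congrArg Subtype.val (Finset.mem_filter.mp ha).2
      have h1 := hinner a b
      rw [hχ a, hχ b, hab, classInner_smul_left, classInner_smul_right,
        classInner_irr_self (χ b).2, mul_one] at h1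
      have hne : ε a * conj (ε b) ≠ 0 := mul_ne_zero (hεne a) (by simpa using hεne b)
      rw [h1, Nat.cast_ne_zero, ← Nat.pos_iff_ne_zero, Finset.card_pos] at hne
      obtain ⟨i, hi⟩ := hne
      obtain ⟨hi1, hi2⟩ := Finset.mem_filter.mp hi
      exact Finset.mem_image.mpr ⟨i, hi1, hi2.symm⟩
    have := Finset.card_le_card hsub
    rw [Finset.card_image_of_injective _ Units.val_injective] at this
    exact this.trans (Finset.card_image_le.trans_eq (Finset.card_range n))
  have hcount := Finset.card_le_mul_card_image (Finset.univ : Finset (ZMod N)ˣ) n hfib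
  rw [Finset.card_univ, ZMod.card_units_eq_totient] at hcount
  refine Nat.div_le_of_le_mul (hcount.trans (Nat.mul_le_mul_left n ?_))
  exact (Finset.card_le_univ _).trans_eq Fintype.card_eq_nat_card

end CfsgLib.GLCusp
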