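import Cfsg.Agent.Lib.GLCusp.Basic

/-!
# Roots of irreducible polynomials as Frobenius orbits, and injective characters of finite fields
-/

set_option autoImplicit false

universe u w

namespace CfsgLib.GLCusp

open Polynomial Module
open scoped Classical

variable {F : Type u} [Field F] [Finite F] {L : Type w} [Field L] [Algebra F L]

/-- Sum of `θ` over `n` Frobenius conjugates. -/
noncomputable def orbitSum (θ : L →*₀ ℂ) (q n : ℕ) (x : L) : ℂ :=
  ∑ i ∈ Finset.range n, θ (x ^ (q ^ i))

theorem aeval_pow_card_pow (f : F[X]) (x : L) (i : ℕ) :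
    aeval (x ^ (Nat.card F ^ i)) f = (aeval x f) ^ (Nat.card F ^ i) := by
  have := Fintype.ofFinite F
  induction i with
  | zero => simp
  | succ i ih =>
    rw [pow_succ, pow_mul, ← expand_aeval, Nat.card_eq_fintype_card, FiniteField.expand_card, map_pow,
      ← Nat.card_eq_fintype_card, ih, ← pow_mul]

theorem root_pow_card_pow {f : F[X]} (hf : Irreducible f) {x : L} (hx : aeval x f = 0) {n : ℕ}
    (hn : f.natDegree ∣ n) : x ^ (Nat.card F ^ n) = x := by
  obtain ⟨c, hc⟩ := hf.natDegree_dvd_iff_dvd_X_pow_card_pow_sub_X.mp hn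
  have := congrArg (aeval x) hc
  rw [map_sub, map_pow, aeval_X, map_mul, hx, zero_mul, sub_eq_zero] at this
  exact this

theorem natDegree_dvd_of_pow {f : F[X]} (hf : Irreducible f) (hm : f.Monic) {x : L}
    (hx : aeval x f = 0) {n : ℕ} (h : x ^ (Nat.card F ^ n) = x) : f.natDegree ∣ n := by
  refine hf.natDegree_dvd_iff_dvd_X_pow_card_pow_sub_X.mpr ?_
  rw [minpoly.eq_of_irreducible_of_monic hf hx hm]
  exact minpoly.dvd F x (by rw [map_sub, map_pow, aeval_X, h, sub_self])

/-- The roots of an irreducible polynomial are the Frobenius conjugates of any one of them. -/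
theorem aroots_eq_orbit {f : F[X]} (hf : Irreducible f) (hm : f.Monic) {x : L}
    (hx : aeval x f = 0) :
    f.aroots L = (Multiset.range f.natDegree).map (fun i => x ^ (Nat.card F ^ i)) ∧
      (f.aroots L).Nodup := by
  set d := f.natDegree with hd
  have hper := root_pow_card_pow hf hx (dvd_refl d)
  have key : ∀ i j, i < j → j < d → x ^ (Nat.card F ^ i) ≠ x ^ (Nat.card F ^ j) := by
    intro i j hij hj he
    have h1 := congrArg (fun y => y ^ (Nat.card F ^ (d - j))) he
    simp only [← pow_mul, ← pow_add] at h1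
    rw [show j + (d - j) = d by omega, hper] at h1
    have h2 := Nat.le_of_dvd (by omega) (natDegree_dvd_of_pow hf hm hx h1)
    omega
  have hnd : ((Multiset.range d).map (fun i => x ^ (Nat.card F ^ i))).Nodup := by
    refine Multiset.Nodup.map_on (fun i hi j hj he => ?_) (Multiset.nodup_range d)
    rw [Multiset.mem_range] at hi hj
    rcases lt_trichotomy i j with h | h | h
    · exact absurd he (key i j h hj)
    · exact h
    · exact absurd he.symm (key j i h hi)
  have hle : (Multiset.range d).map (fun i => x ^ (Nat.card F ^ i)) ≤ f.aroots L := by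
    rw [Multiset.le_iff_subset hnd]
    intro y hy
    obtain ⟨i, -, rfl⟩ := Multiset.mem_map.mp hy
    rw [mem_aroots, aeval_pow_card_pow, hx, zero_pow (pow_ne_zero _ Nat.card_pos.ne')]
    exact ⟨hm.ne_zero, rfl⟩
  have heq := Multiset.eq_of_le_of_card_le hle (by
    rw [Multiset.card_map, Multiset.card_range, aroots_def]
    exact (card_roots' _).trans natDegree_map_le)
  exact ⟨heq.symm, heq ▸ hnd⟩

theorem orbitSum_eq (θ : L →*₀ ℂ) {f : F[X]} (hf : Irreducible f) (hm : f.Monic) {x : L}
    (hx : aeval x f = 0) (m : ℕ) :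
    orbitSum θ (Nat.card F) (m * f.natDegree) x = m * rootSum θ f := by
  have h1 : orbitSum θ (Nat.card F) f.natDegree x = rootSum θ f := by
    rw [rootSum, (aroots_eq_orbit hf hm hx).1, Multiset.map_map]
    rfl
  induction m with
  | zero => simp [orbitSum]
  | succ m ih =>
    rw [orbitSum, Nat.succ_mul, Finset.sum_range_add, Nat.cast_succ, add_mul, one_mul, ← h1]
    congr 1
    · rw [h1]; exact ih
    refine Finset.sum_congr rfl fun i _ => ?_
    rw [pow_add, pow_mul, root_pow_card_pow hf hx (dvd_mul_left _ m)]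

omit [Finite F] in
theorem splits_of_degree_le {L : Type w} [Field L] [Algebra F L] {n : ℕ}
    (hsplit : ∀ r : F[X], Irreducible r → r.natDegree ≤ n → (r.map (algebraMap F L)).Splits) :
    ∀ p : F[X], p.Monic → p.natDegree ≤ n → (p.map (algebraMap F L)).Splits := by
  intro p
  induction hN : p.natDegree using Nat.strong_induction_on generalizing p with
  | _ N ih => ?_
  intro hp hpn
  by_cases hu : IsUnit p
  · rw [hp.isUnit_iff.mp hu, Polynomial.map_one]; exact Splits.one
  obtain ⟨r₀, hr₀, hrp⟩ := WfDvdMonoid.exists_irreducible_factor hu hp.ne_zero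
  have hrm : (normalize r₀).Monic := monic_normalize hr₀.ne_zero
  have hri : Irreducible (normalize r₀) := (associated_normalize r₀).irreducible hr₀
  obtain ⟨c, rfl⟩ := normalize_dvd_iff.mpr hrp
  have hc : c.Monic := hrm.of_mul_monic_left hp
  rw [hrm.natDegree_mul hc] at hN
  have := hri.natDegree_pos
  rw [Polynomial.map_mul]
  exact (hsplit _ hri (by omega)).mul (ih c.natDegree (by omega) c rfl hc (by omega))

omit [Finite F] in
/-- An injective character of a finite field. -/
theorem exists_injective_char (L : Type w) [Field L] [Finite L] :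
    ∃ θ : L →*₀ ℂ, Function.Injective θ := by
  have : Fintype Lˣ := Fintype.ofFinite _
  have : NeZero (Nat.card Lˣ) := ⟨Nat.card_pos.ne'⟩
  let e : Lˣ ≃* rootsOfUnity (Nat.card Lˣ) ℂ :=
    mulEquivOfCyclicCardEq (by rw [HasEnoughRootsOfUnity.natCard_rootsOfUnity])
  let θ₀ : L → ℂ := fun x => if h : x = 0 then 0 else ((e (Units.mk0 x h) : ℂˣ) : ℂ)
  have hu : ∀ (x : L) (h : x ≠ 0), θ₀ x = ((e (Units.mk0 x h) : ℂˣ) : ℂ) := fun x h => dif_neg h
  refine ⟨{ toFun := θ₀, map_zero' := dif_pos rfl, map_one' := ?_, map_mul' := ?_ }, ?_⟩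
  · rw [hu 1 one_ne_zero, Units.mk0_one, map_one]; rfl
  · intro a b
    by_cases ha : a = 0
    · simp [θ₀, ha]
    by_cases hb : b = 0
    · simp [θ₀, hb]
    rw [hu a ha, hu b hb, hu _ (mul_ne_zero ha hb), Units.mk0_mul, map_mul]
    rfl
  · intro a b h
    change θ₀ a = θ₀ b at h
    by_cases ha : a = 0 <;> by_cases hb : b = 0
    · rw [ha, hb]
    · rw [hu b hb, show θ₀ a = 0 from dif_pos ha] at h
      exact absurd h.symm (Units.ne_zero _)
    · rw [hu a ha, show θ₀ b = 0 from dif_pos hb] at h
      exact absurd h (Units.ne_zero _)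
    · rw [hu a ha, hu b hb] at h
      exact congrArg Units.val (e.injective (Subtype.ext (Units.ext h)))

end CfsgLib.GLCusp
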