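import Cfsg.Agent.Lib.GLCusp.Count

/-!
# Endomorphisms with characteristic polynomial `f ^ m`
-/

set_option autoImplicit false

universe u v

namespace CfsgLib.GLCusp

open Polynomial Module
open scoped Classical

attribute [local instance] Fintype.ofFinite

variable {F : Type u} [Field F] [Finite F]

omit [Finite F] in
theorem card_linearEquiv_eq {K : Type*} [Field K] [Finite K] {E : Type*} [AddCommGroup E]
    [Module K E] [Module.Finite K E] (k : ℕ) (hk : finrank K E = k) :
    Nat.card (E ≃ₗ[K] E) = ∏ i ∈ Finset.range k, (Nat.card K ^ k - Nat.card K ^ i) := by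
  let b := Module.finBasisOfFinrankEq K E hk
  have e1 : Nat.card (E ≃ₗ[K] E) = Nat.card (GL (Fin k) K) :=
    Nat.card_congr <| (LinearMap.GeneralLinearGroup.generalLinearEquiv K E).toEquiv.symm.trans
      (Units.mapEquiv (LinearMap.toMatrixAlgEquiv b).toMulEquiv).toEquiv
  rw [e1, Matrix.card_GL_field, Fin.prod_univ_eq_prod_range (fun i => Fintype.card K ^ k - Fintype.card K ^ i) k,
    Fintype.card_eq_nat_card]

theorem add_pow_frobenius {V : Type v} [AddCommGroup V] [Module F V] {A B : Module.End F V}
    (h : Commute A B) (M : ℕ) :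
    (A + B) ^ (Nat.card F ^ M) = A ^ (Nat.card F ^ M) + B ^ (Nat.card F ^ M) := by
  rcases subsingleton_or_nontrivial V with hV | hV
  · exact LinearMap.ext fun x => Subsingleton.elim _ _
  obtain ⟨p, _⟩ := CharP.exists F
  obtain ⟨e, hp, hc⟩ := FiniteField.card F p
  have := Fact.mk hp
  have : CharP (Module.End F V) p :=
    charP_of_injective_algebraMap (algebraMap F (Module.End F V)).injective p
  rw [← Fintype.card_eq_nat_card, hc, ← pow_mul]
  exact add_pow_char_pow_of_commute p _ h

/-- **Counting by primary parts.** -/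
theorem sum_primary (V : Type v) [AddCommGroup V] [Module F V] [FiniteDimensional F V] [Finite V]
    [Finite (Module.End F V)] {f : F[X]} (hf : Irreducible f) (hm : f.Monic) {m : ℕ}
    (hdim : (m + 1) * f.natDegree = finrank F V) :
    ((Nat.card F : ℂ) ^ finrank F V - 1) * ∑ g : Module.End F V,
      (if g.charpoly = f ^ (m + 1) then hQ ((Nat.card F : ℂ) ^ f.natDegree) (cokerLen g f) else 0) =
      Nat.card (V ≃ₗ[F] V) := by
  have := Fact.mk hf
  have := hm.finite_adjoinRoot
  have : Finite (AdjoinRoot f) := Module.finite_of_finite F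
  set q := Nat.card F with hq
  set d := f.natDegree with hd
  have hdpos : 0 < d := hf.natDegree_pos
  have hq2 : 2 ≤ q := Finite.one_lt_card
  set n := finrank F V with hn
  have hnpos : 0 < n := by rw [← hdim]; positivity
  set M := d * n with hM
  set Q := q ^ M with hQM
  have hnQ : n ≤ Q := (Nat.le_mul_of_pos_left n hdpos).trans (Nat.lt_pow_self (n := M) hq2).le
  obtain ⟨h, hh⟩ : f ∣ X ^ Q - X :=
    (hf.natDegree_dvd_iff_dvd_X_pow_card_pow_sub_X (n := M)).mp (Dvd.intro n rfl)
  have hpowQ : ∀ p : F[X], p.comp (X ^ Q) = p ^ Q := by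
    intro p
    rw [← expand_eq_comp_X_pow]
    have : ∀ j, expand F (q ^ j) p = p ^ (q ^ j) := by
      intro j
      induction j with
      | zero => simp
      | succ j ih =>
        rw [pow_succ', expand_mul, ih, map_pow, hq, ← Fintype.card_eq_nat_card, FiniteField.expand_card,
          ← pow_mul]
    exact this M
  have hfrobpow : ∀ (g : Module.End F V) (p : F[X]), aeval (g ^ Q) p = (aeval g p) ^ Q := by
    intro g p
    rw [← map_pow, ← hpowQ, aeval_comp, map_pow, aeval_X]
  -- the two kinds of data
  have hsplit : ∀ g : Module.End F V, g.charpoly = f ^ (m + 1) →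
      aeval (g ^ Q) f = 0 ∧ IsNilpotent (g - g ^ Q) := by
    intro g hg
    have hnil : aeval g f ^ (m + 1) = 0 := by rw [← map_pow, ← hg, g.aeval_self_charpoly]
    have hmQ : m + 1 ≤ Q := le_trans (by rw [← hdim]; exact Nat.le_mul_of_pos_right _ hdpos) hnQ
    refine ⟨by rw [hfrobpow]; exact pow_eq_zero_of_le hmQ hnil, ?_⟩
    have h1 : g - g ^ Q = -(aeval g f * aeval g h) := by
      rw [← map_mul, ← hh, map_sub, map_pow, aeval_X, neg_sub]
    rw [h1]
    refine IsNilpotent.neg ⟨m + 1, ?_⟩
    rw [(Commute.all f h).map (aeval g) |>.mul_pow, hnil, zero_mul]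
  have hrange : ∀ g : Module.End F V, g.charpoly = f ^ (m + 1) →
      LinearMap.range (aeval g f) = LinearMap.range (g - g ^ Q) := by
    intro g hg
    obtain ⟨hS, -⟩ := hsplit g hg
    apply le_antisymm
    · obtain ⟨c, hc⟩ := sub_dvd_eval_sub (X : F[X]) (X ^ Q) (f.map (C : F →+* F[X]))
      have e : f - f.comp (X ^ Q) = (X - X ^ Q) * c := by
        rw [← hc]
        simp [eval_map, comp]
      have e2 : aeval g f = (g - g ^ Q) * aeval g c := by
        have := congrArg (aeval g) e
        rw [map_mul, map_sub, map_sub, map_pow, aeval_X, aeval_comp, map_pow, aeval_X, hS,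
          sub_zero] at this
        exact this
      rw [e2, Module.End.mul_eq_comp]
      exact LinearMap.range_comp_le_range _ _
    · have h1 : g - g ^ Q = aeval g f * aeval g (-h) := by
        rw [← map_mul, mul_neg, ← hh, neg_sub, map_sub, map_pow, aeval_X]
      rw [h1, Module.End.mul_eq_comp]
      exact LinearMap.range_comp_le_range _ _
  have hback : ∀ S N : Module.End F V, aeval S f = 0 → Commute S N → IsNilpotent N →
      (S + N).charpoly = f ^ (m + 1) ∧ (S + N) ^ Q = S := by
    intro S N hS hSN hN
    have hNQ : N ^ Q = 0 := pow_eq_zero_of_le hnQ (by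
      obtain ⟨j, hj⟩ := hN
      have hx : aeval N ((X : F[X]) ^ j) = 0 := by rw [map_pow, aeval_X]; exact hj
      obtain ⟨l, hl, hl'⟩ := charpoly_eq_pow irreducible_X monic_X j hx
      have := N.aeval_self_charpoly
      rw [hl, map_pow, aeval_X] at this
      rw [natDegree_X, mul_one, ← hn] at hl'
      exact hl' ▸ this)
    have hSQ : S ^ Q = S := by
      have := congrArg (aeval S) hh
      rw [map_sub, map_pow, aeval_X, map_mul, hS, zero_mul, sub_eq_zero] at this
      exact this
    have hpow : (S + N) ^ Q = S := by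
      rw [hQM, hq, add_pow_frobenius hSN, ← hq, ← hQM, hSQ, hNQ, add_zero]
    refine ⟨?_, hpow⟩
    obtain ⟨l, hl, hl'⟩ := charpoly_eq_pow (g := S + N) hf hm Q (by
      rw [map_pow, ← hfrobpow, hpow, hS])
    rw [hl]
    congr 1
    exact Nat.eq_of_mul_eq_mul_right hdpos (hl'.trans hdim.symm)
  -- the model
  let K := AdjoinRoot f
  let E := Fin (m + 1) → K
  have hdK : finrank F K = d := (AdjoinRoot.powerBasis' hm).finrank
  let α : Module.End F E := Algebra.lsmul F F E (AdjoinRoot.root f)
  have hα : ∀ x : E, α x = AdjoinRoot.root f • x := fun _ => rfl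
  have hαf : aeval α f = 0 := by
    rw [show α = Algebra.lsmul F F E (AdjoinRoot.root f) from rfl, aeval_algHom_apply,
      AdjoinRoot.aeval_eq, AdjoinRoot.mk_self, map_zero]
  have hequiv : ∀ S : Module.End F V, aeval S f = 0 →
      ∃ e : E ≃ₗ[F] V, ∀ x, e (α x) = S (e x) := by
    intro S hS
    let φ : AdjoinRoot f →ₐ[F] Module.End F V :=
      Ideal.Quotient.liftₐ (Ideal.span {f}) (aeval S) fun a ha => by
        obtain ⟨c, rfl⟩ := Ideal.mem_span_singleton.mp ha
        rw [map_mul, hS, zero_mul]
    let _modK : Module (AdjoinRoot f) V := Module.compHom V φ.toRingHom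
    have hs : ∀ (c : AdjoinRoot f) (v : V), c • v = φ c v := fun _ _ => rfl
    have hroot : ∀ v : V, AdjoinRoot.root f • v = S v := fun v => by
      rw [hs, show φ (AdjoinRoot.root f) = aeval S X from rfl, aeval_X]
    have halg : ∀ (c : F) (v : V), algebraMap F (AdjoinRoot f) c • v = c • v := fun c v => by
      rw [hs, AlgHom.commutes, Module.algebraMap_end_apply]
    have hdimK : finrank K V = m + 1 := by
      have h1 : Nat.card V = (q ^ d) ^ finrank K V := by
        rw [Module.natCard_eq_pow_finrank (K := K) (V := V), natCard_adjoinRoot hm]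
      rw [Module.natCard_eq_pow_finrank (K := F) (V := V), ← hn, ← hdim, ← pow_mul, mul_comm] at h1
      exact (Nat.eq_of_mul_eq_mul_left hdpos (Nat.pow_right_injective hq2 h1)).symm
    let e₀ : E ≃ₗ[K] V := LinearEquiv.ofFinrankEq E V (by simp [E, hdimK])
    refine ⟨{ toFun := e₀, map_add' := e₀.map_add, map_smul' := fun c x => ?_,
              invFun := e₀.symm, left_inv := e₀.left_inv, right_inv := e₀.right_inv }, fun x => ?_⟩
    · show e₀ (c • x) = c • e₀ x
      rw [← halg, ← e₀.map_smul, algebraMap_smul]
    · show e₀ (α x) = S (e₀ x)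
      rw [hα, e₀.map_smul, hroot]
  have hKlin : ∀ T : Module.End F E, (∀ x, T (α x) = α (T x)) → ∀ (c : K) x, T (c • x) = c • T x := by
    intro T hT c x
    obtain ⟨p, rfl⟩ := AdjoinRoot.mk_surjective c
    have hp : ∀ y : E, AdjoinRoot.mk f p • y = aeval α p y := fun y => by
      rw [show α = Algebra.lsmul F F E (AdjoinRoot.root f) from rfl, aeval_algHom_apply,
        AdjoinRoot.aeval_eq]
      rfl
    rw [hp, hp]
    exact semiconj_aeval T hT p x
  -- for a fixed semisimple part
  set H : ℕ → ℂ := fun r => hQ ((q : ℂ) ^ d) ((n - r) / d) with hH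
  have hinner : ∀ S : Module.End F V, aeval S f = 0 →
      ∑ N : Module.End F V, (if Commute S N ∧ IsNilpotent N then H (finrank F (LinearMap.range N)) else 0) =
      ∑ N : Module.End K E, (if IsNilpotent N then
        hQ ((q : ℂ) ^ d) (m + 1 - finrank K (LinearMap.range N)) else 0) := by
    intro S hS
    obtain ⟨e, he⟩ := hequiv S hS
    symm
    refine Fintype.sum_of_injective (fun N : Module.End K E => e.conj (N.restrictScalars F))
      (fun a b h => LinearMap.restrictScalars_injective F (e.conj.injective h)) _ _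
      (fun N hN => ?_) fun N => ?_
    · rw [if_neg]
      rintro ⟨hc, -⟩
      refine hN ⟨{ toFun := e.symm.conj N, map_add' := map_add _, map_smul' := hKlin _ ?_ }, ?_⟩
      · intro x
        apply e.injective
        simp only [LinearEquiv.conj_apply_apply, LinearEquiv.symm_symm, LinearEquiv.apply_symm_apply, he]
        exact (LinearMap.congr_fun hc.eq (e x)).symm
      · ext x
        show e (e.symm.conj N (e.symm x)) = N x
        simp [LinearEquiv.conj_apply_apply]
    · have hcom : Commute S (e.conj (N.restrictScalars F)) := by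
        refine LinearMap.ext fun x => ?_
        obtain ⟨y, rfl⟩ := e.surjective x
        simp only [Module.End.mul_apply, LinearEquiv.conj_apply_apply, LinearEquiv.symm_apply_apply,
          ← he, LinearMap.restrictScalars_apply, hα, map_smul]
      have hpow : ∀ j : ℕ, e.conj (N.restrictScalars F) ^ j = e.conj ((N ^ j).restrictScalars F) := by
        intro j
        induction j with
        | zero => ext x; simp [LinearEquiv.conj_apply_apply]
        | succ j ih =>
          ext x
          rw [pow_succ', Module.End.mul_apply, ih]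
          simp [LinearEquiv.conj_apply_apply, pow_succ']
      have hnil : IsNilpotent (e.conj (N.restrictScalars F)) ↔ IsNilpotent N := by
        refine exists_congr fun j => ?_
        rw [hpow]
        constructor
        · intro h
          refine LinearMap.restrictScalars_injective F (e.conj.injective ?_)
          rw [h, LinearMap.restrictScalars_zero, map_zero]
        · intro h
          rw [h, LinearMap.restrictScalars_zero, map_zero]
      have hr : finrank F (LinearMap.range (e.conj (N.restrictScalars F))) =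
          d * finrank K (LinearMap.range N) := by
        have h1 : LinearMap.range (e.conj (N.restrictScalars F)) =
            ((LinearMap.range N).restrictScalars F).map (e : E →ₗ[F] V) := by
          ext v
          constructor
          · rintro ⟨x, rfl⟩
            exact ⟨_, ⟨e.symm x, rfl⟩, rfl⟩
          · rintro ⟨_, ⟨x, rfl⟩, rfl⟩
            exact ⟨e x, by simp [LinearEquiv.conj_apply_apply]⟩
        rw [h1, LinearEquiv.finrank_map_eq, ← hdK]
        exact (Module.finrank_mul_finrank F K (LinearMap.range N)).symm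
      by_cases hN : IsNilpotent N
      · rw [if_pos hN, if_pos ⟨hcom, hnil.mpr hN⟩, hH, hr]
        simp only
        rw [← hdim, mul_comm (m + 1), ← Nat.mul_sub, Nat.mul_div_cancel_left _ hdpos]
      · rw [if_neg hN, if_neg fun h => hN (hnil.mp h.2)]
  -- the number of semisimple parts
  have hfin : Finite (E ≃ₗ[F] V) :=
    Finite.of_injective (fun e => (e : E → V)) DFunLike.coe_injective
  have hcount : Nat.card {S : Module.End F V // aeval S f = 0} * Nat.card (E ≃ₗ[K] E) =
      Nat.card (V ≃ₗ[F] V) := by
    let Ψ : (E ≃ₗ[F] V) → {S : Module.End F V // aeval S f = 0} := fun e => ⟨e.conj α, by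
      refine LinearMap.ext fun x => ?_
      obtain ⟨y, rfl⟩ := e.surjective x
      have := semiconj_aeval (e : E →ₗ[F] V) (g := α) (g' := e.conj α)
        (fun z => by simp [LinearEquiv.conj_apply_apply]) f y
      rw [hαf, LinearMap.zero_apply, map_zero] at this
      exact this.symm⟩
    obtain ⟨e₁⟩ : Nonempty (E ≃ₗ[F] V) := by
      refine ⟨LinearEquiv.ofFinrankEq E V ?_⟩
      rw [← Module.finrank_mul_finrank F K E, hdK, ← hn, ← hdim, mul_comm]
      simp [E]
    have h1 : Nat.card (E ≃ₗ[F] V) = Nat.card (V ≃ₗ[F] V) :=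
      Nat.card_congr
        { toFun := fun e => e₁.symm.trans e
          invFun := fun e => e₁.trans e
          left_inv := fun e => by ext; simp
          right_inv := fun e => by ext; simp }
    rw [← h1, ← Nat.card_congr (Equiv.sigmaFiberEquiv Ψ), Nat.card_sigma]
    have hfib : ∀ S, Nat.card {e // Ψ e = S} = Nat.card (E ≃ₗ[K] E) := by
      intro S
      obtain ⟨e, he⟩ := hequiv S.1 S.2
      refine (Nat.card_congr (Equiv.ofBijective (fun a : E ≃ₗ[K] E =>
        (⟨(a.restrictScalars F).trans e, Subtype.ext (LinearMap.ext fun x => ?_)⟩ : {e // Ψ e = S}))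
        ⟨?_, ?_⟩)).symm
      · show e (a (α (a.symm (e.symm x)))) = S.1 x
        rw [hα, a.map_smul, a.apply_symm_apply, ← hα, he, e.apply_symm_apply]
      · intro a b h
        refine LinearEquiv.ext fun x => e.injective ?_
        exact LinearEquiv.congr_fun (congrArg Subtype.val h) x
      · rintro ⟨e', he'⟩
        have he2 : ∀ x, e' (α x) = S.1 (e' x) := fun x => by
          rw [← he']
          show _ = e' (α (e'.symm (e' x)))
          rw [e'.symm_apply_apply]
        let T : E ≃ₗ[F] E := e'.trans e.symm
        have hT : ∀ x, T (α x) = α (T x) := fun x => by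
          apply e.injective
          simp only [T, LinearEquiv.trans_apply, e.apply_symm_apply, he, he2]
        refine ⟨{ T with map_smul' := hKlin (T : E →ₗ[F] E) hT }, Subtype.ext (LinearEquiv.ext fun x => ?_)⟩
        exact e.apply_symm_apply (e' x)
    simp only [hfib, Finset.sum_const, Finset.card_univ, smul_eq_mul, Fintype.card_eq_nat_card]
  have hKcard : (Nat.card K : ℂ) = (q : ℂ) ^ d := by rw [natCard_adjoinRoot hm]; push_cast; rfl
  -- reindex by the pairs
  have hpairs : ∑ g : Module.End F V, (if g.charpoly = f ^ (m + 1) then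
      hQ ((q : ℂ) ^ d) (cokerLen g f) else 0) =
      ∑ P : Module.End F V × Module.End F V, (if aeval P.1 f = 0 ∧ Commute P.1 P.2 ∧ IsNilpotent P.2
        then H (finrank F (LinearMap.range P.2)) else 0) := by
    rw [← Finset.sum_filter, ← Finset.sum_filter]
    refine Finset.sum_bij' (fun g _ => (g ^ Q, g - g ^ Q)) (fun P _ => P.1 + P.2) ?_ ?_ ?_ ?_ ?_
    · intro g hg
      have hg := (Finset.mem_filter.mp hg).2
      refine Finset.mem_filter.mpr ⟨Finset.mem_univ _, (hsplit g hg).1, ?_, (hsplit g hg).2⟩
      exact ((Commute.refl g).pow_left Q).sub_right (Commute.refl _)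
    · intro P hP
      obtain ⟨h1, h2, h3⟩ := (Finset.mem_filter.mp hP).2
      exact Finset.mem_filter.mpr ⟨Finset.mem_univ _, (hback _ _ h1 h2 h3).1⟩
    · intro g _
      exact add_sub_cancel (g ^ Q) g
    · intro P hP
      obtain ⟨h1, h2, h3⟩ := (Finset.mem_filter.mp hP).2
      simp only [(hback _ _ h1 h2 h3).2, add_sub_cancel_left]
    · intro g hg
      rw [cokerLen, hrange g (Finset.mem_filter.mp hg).2]
  rw [hpairs, Fintype.sum_prod_type]
  have hS : ∀ S : Module.End F V, ∑ N : Module.End F V, (if aeval S f = 0 ∧ Commute S N ∧ IsNilpotent N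
      then H (finrank F (LinearMap.range N)) else 0) =
      if aeval S f = 0 then
        ((q : ℂ) ^ d) ^ m * ∏ i ∈ Finset.range m, (((q : ℂ) ^ d) ^ m - ((q : ℂ) ^ d) ^ i) else 0 := by
    intro S
    by_cases h : aeval S f = 0
    · simp only [h, true_and, if_true]
      rw [hinner S h]
      exact sum_nilpotent _ hKcard.symm m (by simp [E])
    · simp [h]
  simp only [hS]
  rw [← Finset.sum_filter, Finset.sum_const, nsmul_eq_mul, ← Fintype.card_subtype,
    Fintype.card_eq_nat_card, ← hcount, Nat.cast_mul,
    card_linearEquiv_eq (K := K) (E := E) (m + 1) (by simp [E]), Nat.cast_prod]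
  have hcast : ∀ i ∈ Finset.range (m + 1), ((Nat.card K ^ (m + 1) - Nat.card K ^ i : ℕ) : ℂ) =
      ((q : ℂ) ^ d) ^ (m + 1) - ((q : ℂ) ^ d) ^ i := fun i hi => by
    rw [Nat.cast_sub (Nat.pow_le_pow_right Nat.card_pos (Finset.mem_range.mp hi).le), Nat.cast_pow,
      Nat.cast_pow, hKcard]
  have hfac : ∏ i ∈ Finset.range m, (((q : ℂ) ^ d) ^ (m + 1) - ((q : ℂ) ^ d) ^ (i + 1)) =
      ((q : ℂ) ^ d) ^ m * ∏ i ∈ Finset.range m, (((q : ℂ) ^ d) ^ m - ((q : ℂ) ^ d) ^ i) := by
    rw [Finset.prod_congr rfl (g := fun i => (q : ℂ) ^ d * (((q : ℂ) ^ d) ^ m - ((q : ℂ) ^ d) ^ i))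
      (fun i _ => show ((q : ℂ) ^ d) ^ (m + 1) - ((q : ℂ) ^ d) ^ (i + 1) =
        (q : ℂ) ^ d * (((q : ℂ) ^ d) ^ m - ((q : ℂ) ^ d) ^ i) by ring),
      Finset.prod_mul_distrib, Finset.prod_const, Finset.card_range]
  rw [Finset.prod_congr rfl hcast, Finset.prod_range_succ', hfac, pow_zero, ← hdim,
    mul_comm (m + 1) d, pow_mul]
  ring

end CfsgLib.GLCusp
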