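import Cfsg.Agent.Lib.GLCusp.Cuspidal
import Cfsg.Agent.Lib.GLCusp.PrimaryCount
import Cfsg.Agent.Lib.GLCusp.Orbit

/-!
# Inner products of the primary class functions
-/

set_option autoImplicit false

universe u v w

namespace CfsgLib.GLCusp

open Polynomial Module
open scoped Classical ComplexConjugate

attribute [local instance] Fintype.ofFinite

variable {F : Type u} [Field F] [Finite F] {L : Type w} [Field L] [Algebra F L]
variable {V : Type v} [AddCommGroup V] [Module F V] [FiniteDimensional F V] [Finite V]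

omit [Finite F] [Finite V] in
/-- `phi` vanishes outside the units. -/
theorem phi_eq_zero_of_not_isUnit (θ : L →*₀ ℂ) {g : Module.End F V} (hg : ¬ IsUnit g) :
    phi θ g = 0 := by
  by_cases hex : ∃ f, IsPrimary g f
  swap
  · exact phi_eq_zero θ fun f hf => hex ⟨f, hf⟩
  obtain ⟨f, hf⟩ := hex
  have hker : LinearMap.ker g ≠ ⊥ := fun h => hg ((LinearMap.isUnit_iff_ker_eq_bot g).mpr h)
  have hev : g.HasEigenvalue 0 := by
    rw [Module.End.hasEigenvalue_iff, Module.End.eigenspace_zero]
    exact hker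
  have hX : X ∣ g.charpoly := by
    rw [X_dvd_iff, coeff_zero_eq_eval_zero]
    exact (Module.End.hasEigenvalue_iff_isRoot_charpoly g 0).mp hev
  obtain ⟨hm, hi, m, -, e⟩ := id hf
  have hfX : f = X := (eq_of_monic_of_associated monic_X hm
    (irreducible_X.associated_of_dvd hi (prime_X.dvd_of_dvd_pow (e ▸ hX)))).symm
  rw [phi_eq θ hf, hfX, rootSum, aroots_X, Multiset.map_singleton, Multiset.sum_singleton, map_zero,
    zero_mul]

/-- Only the top term of the expansion of the lift survives. -/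
theorem sum_phi_phi (θ θ' : L →*₀ ℂ) [Finite (Module.End F V)] :
    ∑ g : Module.End F V, phi θ g * conj (phi θ' g) =
      ∑ g : Module.End F V, phi θ g * conj (lift θ' g) := by
  simp only [← sum_phiW θ', map_sum, Finset.mul_sum]
  rw [Finset.sum_comm, Fintype.sum_eq_single (⊤ : Submodule F V)]
  · simp only [phiW_top]
  intro W hW
  by_cases hW0 : W = ⊥
  · subst hW0
    simp [phiW_bot]
  have key : ∀ g : Module.End F V, ∑ T : rad W, phi θ (g + (T : Module.End F V)) *
      conj (phiW θ' (g + (T : Module.End F V)) W) = 0 := by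
    intro g
    have hiff : ∀ T : rad W, Inv (g + (T : Module.End F V)) W ↔ Inv g W := fun T =>
      forall₂_congr fun w hw => by rw [LinearMap.add_apply, T.2.2 w hw, add_zero]
    by_cases hg : Inv g W
    · have hc : ∀ T : rad W, phiW θ' (g + (T : Module.End F V)) W = phiW θ' g W := fun T => by
        rw [phiW_eq θ' hg, phiW_eq θ' ((hiff T).mpr hg)]
        congr 1
        ext x
        show g x + T.1 x = g x
        rw [T.2.2 x x.2, add_zero]
      simp only [hc, ← Finset.sum_mul]
      rw [cusp θ g hW0 hW hg, zero_mul]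
    · refine Finset.sum_eq_zero fun T _ => ?_
      rw [phiW_eq_zero θ' fun h => hg ((hiff T).mp h), map_zero, mul_zero]
  have hshift : ∀ T : rad W, ∑ g : Module.End F V, phi θ (g + (T : Module.End F V)) *
      conj (phiW θ' (g + (T : Module.End F V)) W) = ∑ g : Module.End F V, phi θ g * conj (phiW θ' g W) :=
    fun T => Fintype.sum_equiv (Equiv.addRight (T : Module.End F V)) _ _ fun g => rfl
  have h : ∑ T : rad W, ∑ g : Module.End F V, phi θ (g + (T : Module.End F V)) *
      conj (phiW θ' (g + (T : Module.End F V)) W) = 0 := by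
    rw [Finset.sum_comm]
    exact Finset.sum_eq_zero fun g _ => key g
  simp only [hshift] at h
  rw [Finset.sum_const, Finset.card_univ, nsmul_eq_mul] at h
  exact (mul_eq_zero.mp h).resolve_left (Nat.cast_ne_zero.mpr Fintype.card_ne_zero)

set_option maxHeartbeats 800000 in
/-- The sum over endomorphisms as a sum over the elements of the field with `q ^ n` elements. -/
theorem sum_phi_lift (θ θ' : L →*₀ ℂ) [Finite L] [Finite (Module.End F V)]
    (hsp : ∀ p : F[X], p.Monic → p.natDegree ≤ finrank F V → (p.map (algebraMap F L)).Splits)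
    (hn : 0 < finrank F V) :
    ((Nat.card F : ℂ) ^ finrank F V - 1) * ∑ g : Module.End F V, phi θ g * conj (lift θ' g) =
      (Nat.card (V ≃ₗ[F] V) : ℂ) *
        ∑ x ∈ Finset.univ.filter (fun x : L => x ≠ 0 ∧ x ^ (Nat.card F ^ finrank F V) = x),
          θ x * conj (orbitSum θ' (Nat.card F) (finrank F V) x) := by
  set q := Nat.card F
  set n := finrank F V with hn'
  set T := Finset.univ.filter (fun x : L => x ≠ 0 ∧ x ^ (q ^ n) = x) with hT
  have hdvd : ∀ x ∈ T, IsIntegral F x ∧ (minpoly F x).natDegree ∣ n ∧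
      n / (minpoly F x).natDegree * (minpoly F x).natDegree = n := by
    intro x hx
    obtain ⟨-, hx0, hxn⟩ := Finset.mem_filter.mp hx
    have : Finite F := inferInstance
    have hint : IsIntegral F x := IsIntegral.of_finite F x
    have hd := natDegree_dvd_of_pow (minpoly.irreducible hint) (minpoly.monic hint) (minpoly.aeval F x) hxn
    exact ⟨hint, hd, Nat.div_mul_cancel hd⟩
  let G : Module.End F V → L → ℂ := fun g x =>
    if g.charpoly = minpoly F x ^ (n / (minpoly F x).natDegree) then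
      hQ ((q : ℂ) ^ (minpoly F x).natDegree) (cokerLen g (minpoly F x)) else 0
  have hpt : ∀ g : Module.End F V, phi θ g * conj (lift θ' g) =
      ∑ x ∈ T, θ x * conj (orbitSum θ' q n x) * G g x := by
    intro g
    by_cases hex : ∃ f, IsPrimary g f
    swap
    · rw [phi_eq_zero θ fun f hf => hex ⟨f, hf⟩, zero_mul]
      refine (Finset.sum_eq_zero fun x hx => ?_).symm
      obtain ⟨hint, hd, hmul⟩ := hdvd x hx
      have hne : g.charpoly ≠ minpoly F x ^ (n / (minpoly F x).natDegree) := fun e =>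
        hex ⟨_, minpoly.monic hint, minpoly.irreducible hint, _,
          Nat.div_pos (Nat.le_of_dvd hn hd) (minpoly.natDegree_pos hint), e⟩
      simp [G, hne]
    obtain ⟨f, hf⟩ := hex
    obtain ⟨hm, hi, m, hm0, e⟩ := id hf
    have hnd : m * f.natDegree = n := by rw [hn', ← g.charpoly_natDegree, e, hm.natDegree_pow]
    have hmp : ∀ x : L, aeval x f = 0 → minpoly F x = f := fun x hx =>
      (minpoly.eq_of_irreducible_of_monic hi hx hm).symm
    have hG : ∀ x ∈ T, G g x = if aeval x f = 0 then hQ ((q : ℂ) ^ f.natDegree) (cokerLen g f) else 0 := by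
      intro x hx
      obtain ⟨hint, hd, hmul⟩ := hdvd x hx
      by_cases hxf : aeval x f = 0
      · rw [if_pos hxf]
        simp only [G, hmp x hxf]
        rw [if_pos]
        rw [e, ← hnd, Nat.mul_div_cancel _ hi.natDegree_pos]
      · rw [if_neg hxf]
        simp only [G]
        rw [if_neg]
        intro h
        have hpos := Nat.div_pos (Nat.le_of_dvd hn hd) (minpoly.natDegree_pos hint)
        have := isPrimary_unique hf ⟨minpoly.monic hint, minpoly.irreducible hint, _, hpos, h⟩
        exact hxf (this ▸ minpoly.aeval F x)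
    rw [Finset.sum_congr rfl fun x hx => by rw [hG x hx, mul_ite, mul_zero], ← Finset.sum_filter,
      ← Finset.sum_mul, phi_eq θ hf, lift, e, rootSum_pow]
    by_cases hfX : f = X
    · subst hfX
      rw [Finset.sum_eq_zero (s := T.filter _) fun x hx => ?_]
      · simp [rootSum, aroots_X]
      obtain ⟨hxT, hx0⟩ := Finset.mem_filter.mp hx
      rw [aeval_X] at hx0
      exact absurd hx0 (Finset.mem_filter.mp hxT).2.1
    have hsplf := hsp f hm (hnd ▸ Nat.le_mul_of_pos_left _ hm0)
    obtain ⟨x₀, hx₀⟩ : ∃ x : L, aeval x f = 0 := by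
      obtain ⟨x, hx⟩ := hsplf.exists_eval_eq_zero (by
        rw [degree_map]; exact hi.degree_pos.ne')
      exact ⟨x, by rw [← eval_map_algebraMap]; exact hx⟩
    obtain ⟨-, hnodup⟩ := aroots_eq_orbit hi hm hx₀
    have hroots : (f.aroots L).toFinset = T.filter (fun x => aeval x f = 0) := by
      ext x
      rw [Multiset.mem_toFinset, mem_aroots, Finset.mem_filter, hT, Finset.mem_filter]
      refine ⟨fun h => ⟨⟨Finset.mem_univ _, ?_, root_pow_card_pow hi h.2 ⟨m, by rw [mul_comm]; exact hnd.symm⟩⟩, h.2⟩,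
        fun h => ⟨hm.ne_zero, h.2⟩⟩
      rintro rfl
      refine hfX (eq_of_monic_of_associated monic_X hm (irreducible_X.associated_of_dvd hi ?_)).symm
      rw [X_dvd_iff]
      have := h.2
      rw [← coeff_zero_eq_aeval_zero'] at this
      exact (map_eq_zero _).mp this
    have hsum : rootSum θ f * conj ((m : ℂ) * rootSum θ' f) =
        ∑ x ∈ T.filter (fun x => aeval x f = 0), θ x * conj (orbitSum θ' q n x) := by
      have h1 : rootSum θ f = ∑ x ∈ (f.aroots L).toFinset, θ x := by
        rw [Finset.sum_eq_multiset_sum, Multiset.toFinset_val, hnodup.dedup]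
        rfl
      rw [← hroots, h1, Finset.sum_mul]
      refine Finset.sum_congr rfl fun x hx => ?_
      have hx' : aeval x f = 0 := by
        rw [Multiset.mem_toFinset, mem_aroots] at hx
        exact hx.2
      rw [← hnd, orbitSum_eq θ' hi hm hx' m]
    rw [← hsum]
    ring
  simp only [hpt]
  rw [Finset.sum_comm, Finset.mul_sum, Finset.mul_sum]
  refine Finset.sum_congr rfl fun x hx => ?_
  obtain ⟨hint, hd, hmul⟩ := hdvd x hx
  obtain ⟨k, hk⟩ : ∃ k, n / (minpoly F x).natDegree = k + 1 :=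
    ⟨_, (Nat.succ_pred_eq_of_pos (Nat.div_pos (Nat.le_of_dvd hn hd) (minpoly.natDegree_pos hint))).symm⟩
  rw [← Finset.mul_sum, mul_left_comm]
  simp only [G, hk]
  rw [sum_primary V (minpoly.irreducible hint) (minpoly.monic hint) (by rw [← hk, hmul])]
  ring

omit [Finite F] in
/-- The orthogonality of the powers of a primitive root of unity. -/
theorem sum_root_pow {η : ℂ} {N : ℕ} (hη : IsPrimitiveRoot η N) (hN : 0 < N) (a b : ℕ) :
    ∑ k ∈ Finset.range N, (η ^ k) ^ a * conj ((η ^ k) ^ b) =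
      if (a : ZMod N) = (b : ZMod N) then (N : ℂ) else 0 := by
  have hnorm : ‖η‖ = 1 := Complex.norm_eq_one_of_pow_eq_one hη.pow_eq_one hN.ne'
  have hne : η ≠ 0 := hη.ne_zero hN.ne'
  set z : ℂ := η ^ a * (η ^ b)⁻¹ with hz
  have hterm : ∀ k : ℕ, (η ^ k) ^ a * conj ((η ^ k) ^ b) = z ^ k := by
    intro k
    rw [hz, ← Complex.inv_eq_conj (by simp [hnorm]), mul_pow, inv_pow, ← pow_mul, ← pow_mul, ← pow_mul,
      ← pow_mul, mul_comm k a, mul_comm k b]
  simp only [hterm]
  have hiff : z = 1 ↔ (a : ZMod N) = (b : ZMod N) := by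
    have hfo : IsOfFinOrder η := isOfFinOrder_iff_pow_eq_one.mpr ⟨N, hN, hη.pow_eq_one⟩
    rw [hz, mul_inv_eq_one₀ (pow_ne_zero _ hne), hfo.pow_eq_pow_iff_modEq, ← hη.eq_orderOf,
      ZMod.natCast_eq_natCast_iff]
  split_ifs with h
  · simp [hiff.mpr h]
  · have hzN : z ^ N = 1 := by
      rw [hz, mul_pow, inv_pow, ← pow_mul, ← pow_mul, mul_comm a, mul_comm b, pow_mul, pow_mul,
        hη.pow_eq_one, one_pow, one_pow, inv_one, mul_one]
    rw [geom_sum_eq (fun e => h (hiff.mp e)), hzN, sub_self, zero_div]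

omit [Finite F] [Algebra F L] in
/-- The character sum over the field with `q ^ n` elements. -/
theorem sum_orbit (θ θ₁ θ₂ : L →*₀ ℂ) [Finite L] {ζ : L} {q n : ℕ} {a b : ℕ}
    (hθ : Function.Injective θ) (hN : 0 < q ^ n - 1) (hζ : IsPrimitiveRoot ζ (q ^ n - 1))
    (h₁ : ∀ x, x ≠ 0 → θ₁ x = θ x ^ a) (h₂ : ∀ x, x ≠ 0 → θ₂ x = θ x ^ b) :
    ∑ x ∈ Finset.univ.filter (fun x : L => x ≠ 0 ∧ x ^ (q ^ n) = x),
      θ₁ x * conj (orbitSum θ₂ q n x) =
    ((q ^ n - 1 : ℕ) : ℂ) *
      ((Finset.range n).filter fun i => (a : ZMod (q ^ n - 1)) = (b : ZMod (q ^ n - 1)) *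
        (q : ZMod (q ^ n - 1)) ^ i).card := by
  set N := q ^ n - 1 with hNdef
  have hqn : q ^ n = N + 1 := by omega
  have : NeZero N := ⟨hN.ne'⟩
  have himage : Finset.univ.filter (fun x : L => x ≠ 0 ∧ x ^ (q ^ n) = x) =
      (Finset.range N).image (fun k => ζ ^ k) := by
    ext x
    rw [Finset.mem_filter, Finset.mem_image]
    constructor
    · rintro ⟨-, hx0, hx⟩
      rw [hqn, pow_succ] at hx
      have h1 : x ^ N = 1 := (mul_eq_right₀ hx0).mp hx
      obtain ⟨i, hi, rfl⟩ := hζ.eq_pow_of_pow_eq_one h1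
      exact ⟨i, Finset.mem_range.mpr hi, rfl⟩
    · rintro ⟨k, -, rfl⟩
      refine ⟨Finset.mem_univ _, pow_ne_zero _ (hζ.ne_zero hN.ne'), ?_⟩
      rw [hqn, pow_succ, ← pow_mul, mul_comm k, pow_mul, hζ.pow_eq_one, one_pow, one_mul]
  rw [himage, Finset.sum_image fun i hi j hj => hζ.pow_inj (Finset.mem_range.mp hi) (Finset.mem_range.mp hj)]
  have hη : IsPrimitiveRoot (θ ζ) N := hζ.map_of_injective (f := θ.toMonoidHom) hθ
  have hne : ∀ k : ℕ, ζ ^ k ≠ 0 := fun k => pow_ne_zero _ (hζ.ne_zero hN.ne')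
  have hterm : ∀ k, θ₁ (ζ ^ k) * conj (orbitSum θ₂ q n (ζ ^ k)) =
      ∑ i ∈ Finset.range n, (θ ζ ^ k) ^ a * conj ((θ ζ ^ k) ^ (b * q ^ i)) := by
    intro k
    rw [orbitSum, map_sum, Finset.mul_sum]
    refine Finset.sum_congr rfl fun i _ => ?_
    rw [h₁ _ (hne k), h₂ _ (pow_ne_zero _ (hne k)), map_pow θ (ζ ^ k), map_pow θ ζ, ← pow_mul _ (q ^ i),
      mul_comm (q ^ i)]
  simp only [hterm]
  rw [Finset.sum_comm]
  simp only [sum_root_pow hη hN, Nat.cast_mul b, Nat.cast_pow]
  rw [← Finset.sum_filter, Finset.sum_const, nsmul_eq_mul, mul_comm]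

end CfsgLib.GLCusp
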