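import Cfsg.Agent.Lib.GLCusp.Basic

/-!
# Sums over the subspaces of a finite vector space

`qS Q k F` is the sum of `F (dim U)` over the subspaces `U` of a space of dimension `k` over a
field with `Q` elements; three special sums are evaluated.
-/

set_option autoImplicit false

namespace CfsgLib.GLCusp

open Module
open scoped Classical

attribute [local instance] Fintype.ofFinite

/-- The recursion for sums over subspaces. -/
noncomputable def qS (Q : ℂ) : ℕ → (ℕ → ℂ) → ℂ
  | 0, F => F 0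
  | k + 1, F => qS Q k fun u => F (u + 1) + Q ^ u * F u

theorem qS_congr (Q : ℂ) : ∀ (k : ℕ) {F G : ℕ → ℂ}, (∀ u ≤ k, F u = G u) → qS Q k F = qS Q k G
  | 0, _, _, h => h 0 le_rfl
  | k + 1, F, G, h => qS_congr Q k fun u hu => by rw [h (u + 1) (by omega), h u (by omega)]

theorem qS_lin (Q : ℂ) : ∀ (k : ℕ) (a b : ℂ) (F G : ℕ → ℂ),
    qS Q k (fun u => a * F u + b * G u) = a * qS Q k F + b * qS Q k G
  | 0, _, _, _, _ => rfl
  | k + 1, a, b, F, G => by
    show qS Q k _ = a * qS Q k _ + b * qS Q k _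
    rw [← qS_lin Q k a b]
    exact qS_congr Q k fun u _ => by ring

theorem qS_mul (Q : ℂ) (k : ℕ) (a : ℂ) (F : ℕ → ℂ) :
    qS Q k (fun u => a * F u) = a * qS Q k F := by
  have := qS_lin Q k a 0 F F
  simpa using this

/-- The Möbius function of the subspace lattice. -/
noncomputable def mob (Q : ℂ) (c : ℕ) : ℂ := (-1) ^ c * Q ^ c.choose 2

theorem mob_succ (Q : ℂ) (c : ℕ) : mob Q (c + 1) = -Q ^ c * mob Q c := by
  rw [mob, mob, pow_succ, Nat.choose_succ_succ', Nat.choose_one_right, pow_add]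
  ring

theorem qS_mob (Q : ℂ) : ∀ k : ℕ, qS Q k (mob Q) = if k = 0 then 1 else 0
  | 0 => by simp [qS, mob]
  | k + 1 => by
    rw [if_neg (Nat.succ_ne_zero k)]
    show qS Q k _ = 0
    rw [qS_congr Q k (G := fun u => 0 * mob Q u) fun u _ => by rw [mob_succ]; ring, qS_mul, zero_mul]

/-- `∑ μ (codim U) R^(dim U)`. -/
noncomputable def qP (Q R : ℂ) (k : ℕ) : ℂ := qS Q k fun u => mob Q (k - u) * R ^ u

/-- `∑ codim U · μ (codim U) R^(dim U)`. -/
noncomputable def qT (Q R : ℂ) (k : ℕ) : ℂ :=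
  qS Q k fun u => ((k - u : ℕ) : ℂ) * mob Q (k - u) * R ^ u

theorem qP_succ (Q R : ℂ) (k : ℕ) : qP Q R (k + 1) = (R - Q ^ k) * qP Q R k := by
  show qS Q k _ = _
  rw [qP, ← qS_mul]
  refine qS_congr Q k fun u hu => ?_
  beta_reduce
  obtain ⟨c, rfl⟩ := Nat.exists_eq_add_of_le hu
  rw [show u + c + 1 - (u + 1) = c by omega, show u + c + 1 - u = c + 1 by omega,
    show u + c - u = c by omega, mob_succ, pow_add, pow_succ]
  ring

theorem qT_succ (Q R : ℂ) (k : ℕ) :
    qT Q R (k + 1) = (R - Q ^ k) * qT Q R k - Q ^ k * qP Q R k := by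
  show qS Q k _ = _
  rw [qT, qP, sub_eq_add_neg _ (Q ^ k * _), ← neg_mul, ← qS_lin]
  refine qS_congr Q k fun u hu => ?_
  beta_reduce
  obtain ⟨c, rfl⟩ := Nat.exists_eq_add_of_le hu
  rw [show u + c + 1 - (u + 1) = c by omega, show u + c + 1 - u = c + 1 by omega,
    show u + c - u = c by omega, mob_succ, pow_add, pow_succ]
  push_cast
  ring

theorem qP_eq (Q R : ℂ) : ∀ k : ℕ, qP Q R k = ∏ i ∈ Finset.range k, (R - Q ^ i)
  | 0 => by simp [qP, qS, mob]
  | k + 1 => by rw [qP_succ, qP_eq Q R k, Finset.prod_range_succ]; ring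

theorem qT_zero (Q R : ℂ) : qT Q R 0 = 0 := by simp [qT, qS]

theorem qP_one (Q : ℂ) (k : ℕ) : qP Q 1 k = if k = 0 then 1 else 0 := by
  rw [qP_eq]
  cases k with
  | zero => simp
  | succ k => rw [if_neg (Nat.succ_ne_zero k), Finset.prod_range_succ']; simp

theorem hQ_eq (Q : ℂ) : ∀ k : ℕ, hQ Q k = -qT Q 1 k
  | 0 => by rw [qT_zero, neg_zero]; rfl
  | 1 => by rw [qT_succ, qT_zero, qP_one]; simp [hQ]
  | k + 2 => by
    rw [qT_succ, qP_one, if_neg (Nat.succ_ne_zero k), mul_zero, sub_zero, ← mul_neg, ← hQ_eq Q (k + 1)]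
    show ∏ i ∈ Finset.range (k + 1), _ = _ * ∏ i ∈ Finset.range k, _
    rw [Finset.prod_range_succ, mul_comm]

/-- The sum that feeds the primary identity. -/
theorem qS_length (Q : ℂ) (a k : ℕ) :
    qS Q k (fun u => ((a + u : ℕ) : ℂ) * mob Q (k - u)) =
      ((a + k : ℕ) : ℂ) * (if k = 0 then 1 else 0) + hQ Q k := by
  rw [hQ_eq, ← qP_one, qP, qT, ← neg_one_mul (qS Q k fun u => _), ← qS_lin]
  refine qS_congr Q k fun u hu => ?_
  obtain ⟨c, rfl⟩ := Nat.exists_eq_add_of_le hu
  rw [show u + c - u = c by omega, one_pow]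
  push_cast
  ring

theorem qT_top (Q : ℂ) (k : ℕ) :
    -qT Q (Q ^ k) (k + 1) = Q ^ k * ∏ i ∈ Finset.range k, (Q ^ k - Q ^ i) := by
  rw [qT_succ, qP_eq]
  ring

variable {K : Type*} [Field K] [Finite K]

omit [Finite K] in
theorem sum_submodule_equiv {E E' : Type*} [AddCommGroup E] [Module K E] [AddCommGroup E']
    [Module K E'] [Finite E] [Finite E'] (e : E ≃ₗ[K] E') (F : ℕ → ℂ) :
    ∑ U : Submodule K E, F (finrank K U) = ∑ U : Submodule K E', F (finrank K U) :=
  Fintype.sum_equiv (Submodule.orderIsoMapComap e).toEquiv _ _ fun U =>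
    congrArg F (LinearEquiv.finrank_map_eq e U).symm

instance finite_linearMap {H : Type*} [AddCommGroup H] [Module K H] [Finite H] :
    Finite (H →ₗ[K] K) := Finite.of_injective (fun f => (f : H → K)) DFunLike.coe_injective

theorem sum_submodule_prod (H : Type*) [AddCommGroup H] [Module K H] [Finite H] (F : ℕ → ℂ) :
    ∑ U : Submodule K (H × K), F (finrank K U) = ∑ U : Submodule K H,
      (F (finrank K U + 1) + (Nat.card K : ℂ) ^ finrank K U * F (finrank K U)) := by
  rw [Finset.sum_add_distrib,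
    ← Fintype.sum_subtype_add_sum_subtype (fun U : Submodule K (H × K) => ((0 : H), (1 : K)) ∈ U)]
  congr 1
  · refine Fintype.sum_equiv
      { toFun := fun U => U.1.comap (LinearMap.inl K H K)
        invFun := fun U => ⟨U.prod ⊤, ⟨U.zero_mem, Submodule.mem_top⟩⟩
        left_inv := fun U => Subtype.ext ?_
        right_inv := fun U => ?_ } _ _ fun U => ?_
    · ext ⟨x, a⟩
      have h1 : ((0 : H), a) ∈ U.1 := by simpa using U.1.smul_mem a U.2
      constructor
      · rintro ⟨hx, -⟩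
        have h2 : (x, (0 : K)) ∈ U.1 := hx
        simpa using U.1.add_mem h2 h1
      · intro hx
        refine ⟨?_, Submodule.mem_top⟩
        show (x, (0 : K)) ∈ U.1
        simpa using U.1.sub_mem hx h1
    · ext x; simp
    · refine congrArg F ?_
      let T : ↥U.1 ≃ₗ[K] ↥(U.1.comap (LinearMap.inl K H K)) × K :=
        { toFun := fun x => (⟨x.1.1, by
            show (x.1.1, (0 : K)) ∈ U.1
            have := U.1.sub_mem x.2 (U.1.smul_mem x.1.2 U.2)
            rwa [show x.1 - x.1.2 • ((0 : H), (1 : K)) = (x.1.1, (0 : K)) from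
              Prod.ext (by simp) (by simp)] at this⟩, x.1.2)
          map_add' := fun _ _ => rfl
          map_smul' := fun _ _ => rfl
          invFun := fun y => ⟨(y.1.1, y.2), by
            simpa using U.1.add_mem (show (y.1.1, (0 : K)) ∈ U.1 from y.1.2) (U.1.smul_mem y.2 U.2)⟩
          left_inv := fun _ => rfl
          right_inv := fun _ => rfl }
      rw [T.finrank_eq, Module.finrank_prod, Module.finrank_self]
      rfl
  · have hc : ∀ U : Submodule K H, (Nat.card K : ℂ) ^ finrank K U * F (finrank K U) =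
        ∑ _α : U →ₗ[K] K, F (finrank K U) := by
      intro U
      have : Module.Finite K (U →ₗ[K] K) := inferInstance
      rw [Finset.sum_const, Finset.card_univ, nsmul_eq_mul, Fintype.card_eq_nat_card,
        Module.natCard_eq_pow_finrank (K := K) (V := U →ₗ[K] K), Subspace.dual_finrank_eq,
        Nat.cast_pow]
    simp only [hc]
    rw [← Fintype.sum_sigma']
    symm
    have hnot : ∀ p : H →ₗ.[K] K, ((0 : H), (1 : K)) ∉ p.graph := fun p hp =>
      one_ne_zero (p.graph_fst_eq_zero_snd hp rfl)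
    have huniq : ∀ U : Submodule K (H × K), ((0 : H), (1 : K)) ∉ U → ∀ x ∈ U, x.1 = 0 → x.2 = 0 := by
      intro U hU x hx h0
      by_contra h
      refine hU ?_
      have := U.smul_mem x.2⁻¹ hx
      rwa [show x.2⁻¹ • x = ((0 : H), (1 : K)) from Prod.ext (by simp [h0]) (inv_mul_cancel₀ h)] at this
    refine Fintype.sum_equiv (Equiv.ofBijective
      (fun p : Σ U : Submodule K H, (U →ₗ[K] K) =>
        (⟨(LinearPMap.mk p.1 p.2).graph, hnot _⟩ :
          {U : Submodule K (H × K) // ¬ ((0 : H), (1 : K)) ∈ U}))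
      ⟨fun p p' h => ?_, fun U => ?_⟩) _ _ fun p => congrArg F ?_
    · have := LinearPMap.eq_of_eq_graph (congrArg Subtype.val h)
      obtain ⟨U, a⟩ := p
      obtain ⟨U', a'⟩ := p'
      cases this
      rfl
    · refine ⟨⟨U.1.toLinearPMap.domain, U.1.toLinearPMap.toFun⟩, Subtype.ext ?_⟩
      exact U.1.toLinearPMap_graph_eq (huniq U.1 U.2)
    · let T : ↥p.1 ≃ₗ[K] ↥(LinearPMap.mk p.1 p.2).graph :=
        LinearEquiv.ofBijective
          ((p.1.subtype.prod p.2).codRestrict _ fun x => LinearPMap.mem_graph ⟨p.1, p.2⟩ x)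
          ⟨fun x y h => Subtype.ext (congrArg (fun z : (H × K) => z.1) (congrArg Subtype.val h)),
            fun z => by
              obtain ⟨x, hx1, hx2⟩ := (LinearPMap.mem_graph_iff _).mp z.2
              exact ⟨x, Subtype.ext (Prod.ext hx1 hx2)⟩⟩
      exact T.finrank_eq

theorem sum_submodule_model : ∀ (k : ℕ) (F : ℕ → ℂ),
    ∑ U : Submodule K (Fin k → K), F (finrank K U) = qS (Nat.card K : ℂ) k F
  | 0, F => by
    rw [Fintype.sum_eq_single (⊥ : Submodule K (Fin 0 → K))
      (fun U hU => absurd (Subsingleton.elim U ⊥) hU), finrank_bot]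
    rfl
  | k + 1, F => by
    let e : (Fin (k + 1) → K) ≃ₗ[K] (Fin k → K) × K := LinearEquiv.ofFinrankEq _ _ (by simp)
    rw [sum_submodule_equiv e F, sum_submodule_prod]
    exact sum_submodule_model k (fun u => F (u + 1) + (Nat.card K : ℂ) ^ u * F u)

/-- Sums over subspaces. -/
theorem sum_submodule (E : Type*) [AddCommGroup E] [Module K E] [Finite E] (F : ℕ → ℂ) :
    ∑ U : Submodule K E, F (finrank K U) = qS (Nat.card K : ℂ) (finrank K E) F := by
  rw [sum_submodule_equiv (LinearEquiv.ofFinrankEq E (Fin (finrank K E) → K) (by simp)) F]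
  exact sum_submodule_model _ F

end CfsgLib.GLCusp
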